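/-
Odd order theorem project: character-theoretic vocabulary.  Every class function of every
subgroup `H` of the ambient finite group `G` is a function `G → ℂ` vanishing off `H`.
-/
import Cfsg.Agent.FT.Base
import Cfsg.Agent.H6.CharBasic
import Cfsg.Agent.H6.CharOrth
import Cfsg.Agent.H6.Induction
import Cfsg.Agent.H6.Burnside

set_option autoImplicit false

namespace Cfsg.Agent.FT

open Subgroup Cfsg Cfsg.Agent
open scoped ComplexConjugate

universe u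

variable {G : Type u}

/-- One decidable equality for all finsets of class functions. -/
noncomputable scoped instance (priority := high) cfDecEq : DecidableEq (G → ℂ) :=
  Classical.decEq _

/-- A subset of a finite type as a finset. -/
noncomputable def fs [Finite G] (A : Set G) : Finset G := (Set.toFinite A).toFinset

/-- `ℤ[S]`. -/
abbrev Zs (S : Finset (G → ℂ)) : Submodule ℤ (G → ℂ) := Submodule.span ℤ (S : Set (G → ℂ))

/-- The image of a class function under a ring endomorphism of `ℂ`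
(complex conjugation is written `star φ`). -/
def cfAut (u : ℂ →+* ℂ) (φ : G → ℂ) : G → ℂ := fun x => u (φ x)

variable [Group G]

/-- `CF(H)`: class functions of `H`, extended by zero. -/
def CF (H : Subgroup G) : Submodule ℂ (G → ℂ) where
  carrier := {φ | (∀ x, x ∉ H → φ x = 0) ∧ ∀ g ∈ H, ∀ x, φ (g * x * g⁻¹) = φ x}
  add_mem' := by
    rintro φ ψ ⟨h1, h2⟩ ⟨h3, h4⟩
    exact ⟨fun x hx => by simp [h1 x hx, h3 x hx], fun g hg x => by simp [h2 g hg x, h4 g hg x]⟩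
  zero_mem' := ⟨fun _ _ => rfl, fun _ _ _ => rfl⟩
  smul_mem' := by
    rintro c φ ⟨h1, h2⟩
    exact ⟨fun x hx => by simp [h1 x hx], fun g hg x => by simp [h2 g hg x]⟩

/-- `CF(H, A)`: class functions of `H` vanishing off `A`. -/
def CFon (H : Subgroup G) (A : Set G) : Submodule ℂ (G → ℂ) where
  carrier := {φ | φ ∈ CF H ∧ ∀ x, x ∉ A → φ x = 0}
  add_mem' := by
    rintro φ ψ ⟨h1, h2⟩ ⟨h3, h4⟩
    exact ⟨add_mem h1 h3, fun x hx => by simp [h2 x hx, h4 x hx]⟩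
  zero_mem' := ⟨zero_mem _, fun _ _ => rfl⟩
  smul_mem' := by
    rintro c φ ⟨h1, h2⟩
    exact ⟨Submodule.smul_mem _ c h1, fun x hx => by simp [h2 x hx]⟩

/-- `ℤ[S, L^#]`: the elements of `ℤ[S]` vanishing at `1`. -/
def Zs0 (S : Finset (G → ℂ)) : Submodule ℤ (G → ℂ) where
  carrier := {φ | φ ∈ Zs S ∧ φ 1 = 0}
  add_mem' := by
    rintro φ ψ ⟨h1, h2⟩ ⟨h3, h4⟩
    exact ⟨add_mem h1 h3, by simp [h2, h4]⟩
  zero_mem' := ⟨zero_mem _, rfl⟩
  smul_mem' := by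
    rintro c φ ⟨h1, h2⟩
    exact ⟨Submodule.smul_mem _ c h1, by simp [h2]⟩

/-- `φ` is a character of `H`. -/
def IsChar (H : Subgroup G) (φ : G → ℂ) : Prop :=
  (∀ x, x ∉ H → φ x = 0) ∧ IsCharacter H (fun h : H => φ h)

/-- `φ` is a linear character of `H`. -/
def IsLin (H : Subgroup G) (φ : G → ℂ) : Prop :=
  (∀ x, x ∉ H → φ x = 0) ∧ φ 1 = 1 ∧ ∀ x ∈ H, ∀ y ∈ H, φ (x * y) = φ x * φ y

/-- The degree of a character as a natural number. -/
noncomputable def dg (φ : G → ℂ) : ℕ := ⌊(φ 1).re⌋₊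

/-- The sign of the value at `1`. -/
noncomputable def dsign (φ : G → ℂ) : ℤ := if 0 < (φ 1).re then 1 else -1

/-- For `φ = ± χ` with `χ` irreducible this is `χ`. -/
noncomputable def dabs (φ : G → ℂ) : G → ℂ := (dsign φ : ℂ) • φ

/-- Restriction to `H`. -/
noncomputable def res (H : Subgroup G) : (G → ℂ) →ₗ[ℂ] (G → ℂ) where
  toFun φ := Set.indicator (H : Set G) φ
  map_add' φ ψ := Set.indicator_add' _ φ ψ
  map_smul' c φ := by
    funext x
    by_cases hx : x ∈ (H : Set G) <;> simp [hx]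

/-- The principal character of `H`. -/
noncomputable def cf1 (H : Subgroup G) : G → ℂ := res H 1

/-- The kernel of a class function. -/
def cfKer (φ : G → ℂ) : Subgroup G where
  carrier := {x | ∀ y, φ (x * y) = φ y}
  mul_mem' := by
    intro a b ha hb y
    rw [mul_assoc, ha, hb]
  one_mem' := by intro y; rw [one_mul]
  inv_mem' := by
    intro a ha y
    rw [← ha (a⁻¹ * y), mul_inv_cancel_left]

/-- The conjugate `φ^g`, a class function of `H ^ᵍ g` when `φ ∈ CF H`. -/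
def cfConj (g : G) : (G → ℂ) →ₗ[ℂ] (G → ℂ) where
  toFun φ := fun x => φ (g⁻¹ * x * g)
  map_add' _ _ := rfl
  map_smul' _ _ := rfl

/-- The inertia group of `φ` in the ambient group. -/
def inertia (φ : G → ℂ) : Subgroup G where
  carrier := {g | ∀ x, φ (g⁻¹ * x * g) = φ x}
  mul_mem' := by
    intro a b ha hb x
    have := hb (a⁻¹ * x * a)
    rw [ha] at this
    rw [← this]; congr 1; group
  one_mem' := by intro x; simp
  inv_mem' := by
    intro a ha x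
    rw [← ha]; congr 1; group

open Classical in
/-- Inflation along a homomorphism `f` defined on a subgroup `Y`. -/
noncomputable def cfPull {Q : Type*} [Group Q] (Y : Subgroup G) (f : Y →* Q) :
    (Q → ℂ) →ₗ[ℂ] (G → ℂ) where
  toFun ψ := fun x => if h : x ∈ Y then ψ (f ⟨x, h⟩) else 0
  map_add' φ ψ := by funext x; by_cases h : x ∈ Y <;> simp [h]
  map_smul' c φ := by funext x; by_cases h : x ∈ Y <;> simp [h]

open Classical in
/-- The Dade isometry of PF section 2. -/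
noncomputable def dade (A : Set G) (H : G → Subgroup G) : (G → ℂ) →ₗ[ℂ] (G → ℂ) where
  toFun α := fun g => if h : ∃ a ∈ A, InDadeSupp1 H a g then α h.choose else 0
  map_add' φ ψ := by funext g; by_cases h : ∃ a ∈ A, InDadeSupp1 H a g <;> simp [h]
  map_smul' c φ := by funext g; by_cases h : ∃ a ∈ A, InDadeSupp1 H a g <;> simp [h]

variable [Finite G]

/-- The inner product of `CF(H)`. -/
noncomputable def ip (H : Subgroup G) (φ ψ : G → ℂ) : ℂ :=
  (Nat.card H : ℂ)⁻¹ * ∑ x ∈ fs (H : Set G), φ x * conj (ψ x)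

/-- The square of the norm. -/
noncomputable def nsq (H : Subgroup G) (φ : G → ℂ) : ℝ :=
  (Nat.card H : ℝ)⁻¹ * ∑ x ∈ fs (H : Set G), ‖φ x‖ ^ 2

theorem finite_irr (H : Subgroup G) :
    {φ : G → ℂ | (∀ x, x ∉ H → φ x = 0) ∧ IsIrrCharacter H (fun h : H => φ h)}.Finite := by
  have := H6.finite_irrCharacter H
  refine Set.Finite.subset (Set.finite_range
    (fun χ : IrrCharacter H => extendByZero H χ.1)) ?_
  rintro φ ⟨h1, h2⟩
  refine ⟨⟨_, h2⟩, ?_⟩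
  funext x
  by_cases hx : x ∈ H
  · exact H6.extendByZero_of_mem H _ hx
  · rw [h1 x hx]; exact H6.extendByZero_of_not_mem H _ hx

/-- `Irr(H)`. -/
noncomputable def Irr (H : Subgroup G) : Finset (G → ℂ) := (finite_irr H).toFinset

/-- `ℤ[Irr H]`. -/
noncomputable abbrev VChar (H : Subgroup G) : Submodule ℤ (G → ℂ) := Zs (Irr H)

/-- `φ = ± χ` with `χ ∈ Irr(H)`. -/
def Dirr (H : Subgroup G) (φ : G → ℂ) : Prop := φ ∈ Irr H ∨ -φ ∈ Irr H

/-- `E` is an orthonormal family. -/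
def ON (H : Subgroup G) (E : Finset (G → ℂ)) : Prop :=
  (∀ α ∈ E, ip H α α = 1) ∧ ∀ α ∈ E, ∀ β ∈ E, α ≠ β → ip H α β = 0

open Classical in
/-- Induction from `H` to `L`. -/
noncomputable def ind (L H : Subgroup G) : (G → ℂ) →ₗ[ℂ] (G → ℂ) where
  toFun φ := fun g =>
    if g ∈ L then (Nat.card H : ℂ)⁻¹ * ∑ x ∈ fs (L : Set G), res H φ (x⁻¹ * g * x) else 0
  map_add' φ ψ := by
    funext g
    by_cases h : g ∈ L <;> simp [h, Finset.sum_add_distrib, mul_add]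
  map_smul' c φ := by
    funext g
    by_cases h : g ∈ L
    · simp only [h, if_true, map_smul, Pi.smul_apply, smul_eq_mul, RingHom.id_apply,
        ← Finset.mul_sum]
      ring
    · simp [h]

/-- The `L`-conjugacy class of `φ`. -/
noncomputable def cfClass (L : Subgroup G) (φ : G → ℂ) : Finset (G → ℂ) :=
  (fs (L : Set G)).image fun g => cfConj g φ

open Classical in
/-- The irreducible constituents of `φ`. -/
noncomputable def constt (H : Subgroup G) (φ : G → ℂ) : Finset (G → ℂ) :=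
  (Irr H).filter fun χ => ip H φ χ ≠ 0

open Classical in
/-- The irreducible characters of `K` with `N` in their kernel. -/
noncomputable def irrKer (K N : Subgroup G) : Finset (G → ℂ) :=
  (Irr K).filter fun θ => N ≤ cfKer θ

open Classical in
/-- The irreducible characters of `K` with `M` but not `H` in their kernel. -/
noncomputable def irrKerD (K H M : Subgroup G) : Finset (G → ℂ) :=
  (Irr K).filter fun θ => M ≤ cfKer θ ∧ ¬ H ≤ cfKer θ

/-- `{Ind_K^L θ | θ ∈ Irr K, M ≤ Ker θ, H ⊄ Ker θ}`. -/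
noncomputable def seqIndD (K L H M : Subgroup G) : Finset (G → ℂ) :=
  (irrKerD K H M).image (ind L K)

/-- `{Ind_K^L θ | θ ∈ Irr K}`. -/
noncomputable def seqIndT (K L : Subgroup G) : Finset (G → ℂ) := (Irr K).image (ind L K)

open Classical in
/-- The map `ρ` of PF section 7. -/
noncomputable def invDade (A : Set G) (H : G → Subgroup G) : (G → ℂ) →ₗ[ℂ] (G → ℂ) where
  toFun χ := fun a =>
    if a ∈ A then (Nat.card (H a) : ℂ)⁻¹ * ∑ h ∈ fs (H a : Set G), χ (h * a) else 0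
  map_add' φ ψ := by
    funext a
    by_cases h : a ∈ A <;> simp [h, Finset.sum_add_distrib, mul_add]
  map_smul' c φ := by
    funext a
    by_cases h : a ∈ A
    · simp only [h, if_true, Pi.smul_apply, smul_eq_mul, RingHom.id_apply, ← Finset.mul_sum]
      ring
    · simp [h]

/-- The characterization PF (3.2) of the cyclic TI isometry. -/
structure IsCycIso (X W : Subgroup G) (V : Set G) (σ : (G → ℂ) →ₗ[ℂ] (G → ℂ)) : Prop where
  iso : ∀ φ ∈ CF W, ∀ ψ ∈ CF W, ip X (σ φ) (σ ψ) = ip W φ ψ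
  one : σ (cf1 W) = cf1 X
  dirr : ∀ ω ∈ Irr W, Dirr X (σ ω)
  ind : ∀ φ ∈ CFon W V, σ φ = ind X W φ

/-- The isometry `σ : CF(W) → CF(X)` of PF section 3, `W = W₁ × W₂`.  The characters
`ω_{i0}` are the `α ∈ irrKer W W₂`, the `ω_{0j}` are the `β ∈ irrKer W W₁`, and `ω_{ij} = α * β`. -/
noncomputable def cycσ (X W₁ W₂ : Subgroup G) : (G → ℂ) →ₗ[ℂ] (G → ℂ) :=
  Classical.epsilon (IsCycIso X (W₁ ⊔ W₂) (hatSet W₁ W₂))

open Classical in
/-- `NC(φ)` of PF (3.6). -/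
noncomputable def cycNC (X W₁ W₂ : Subgroup G) (φ : G → ℂ) : ℕ :=
  ((Irr (W₁ ⊔ W₂)).filter fun ω => ip X φ (cycσ X W₁ W₂ ω) ≠ 0).card

/-- `μ_{ij}` of PF (4.3), for `ω = ω_{ij}`. -/
noncomputable def mu2 (L W₁ W₂ : Subgroup G) (ω : G → ℂ) : G → ℂ := dabs (cycσ L W₁ W₂ ω)

/-- `δ_j` of PF (4.3), for `β = ω_{0j}`. -/
noncomputable def delt (L W₁ W₂ : Subgroup G) (β : G → ℂ) : ℤ := dsign (cycσ L W₁ W₂ β)

/-- `μ_j = ∑_i μ_{ij}` of PF (4.5), for `β = ω_{0j}`. -/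
noncomputable def muR (L W₁ W₂ : Subgroup G) (β : G → ℂ) : G → ℂ :=
  ∑ α ∈ irrKer (W₁ ⊔ W₂) W₂, mu2 L W₁ W₂ (α * β)

/-- `∑_i η_{ij}`, for `β = ω_{0j}`, where `η_{ij} = σ(ω_{ij})` in the ambient group. -/
noncomputable def etaCol (W₁ W₂ : Subgroup G) (β : G → ℂ) : G → ℂ :=
  ∑ α ∈ irrKer (W₁ ⊔ W₂) W₂, cycσ ⊤ W₁ W₂ (α * β)

/-- `S₁ ⊆ S` is closed under complex conjugation. -/
def ConjSub (S₁ S : Finset (G → ℂ)) : Prop := S₁ ⊆ S ∧ ∀ χ ∈ S₁, star χ ∈ S₁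

/-- PF Hypothesis (5.2). -/
structure Subcoherent (L : Subgroup G) (S : Finset (G → ℂ)) (τ : (G → ℂ) →ₗ[ℂ] (G → ℂ))
    (R : (G → ℂ) → Finset (G → ℂ)) : Prop where
  char : ∀ χ ∈ S, IsChar L χ
  not_real : ∀ χ ∈ S, star χ ≠ χ
  conj_mem : ∀ χ ∈ S, star χ ∈ S
  iso : ∀ φ ∈ Zs0 S, ∀ ψ ∈ Zs0 S, ip ⊤ (τ φ) (τ ψ) = ip L φ ψ
  vchar : ∀ φ ∈ Zs0 S, τ φ ∈ VChar ⊤ ∧ τ φ 1 = 0
  orth : ∀ χ ∈ S, ∀ ψ ∈ S, χ ≠ ψ → ip L χ ψ = 0
  R_vchar : ∀ χ ∈ S, ∀ α ∈ R χ, α ∈ VChar ⊤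
  R_on : ∀ χ ∈ S, ON ⊤ (R χ)
  R_sum : ∀ χ ∈ S, τ (χ - star χ) = ∑ α ∈ R χ, α
  R_orth : ∀ ξ ∈ S, ∀ φ ∈ S, ip L φ ξ = 0 → ip L φ (star ξ) = 0 →
    ∀ α ∈ R φ, ∀ β ∈ R ξ, ip ⊤ α β = 0

/-- PF (5.1): `τ₁` is a coherent extension to `ℤ[S]` of the restriction of `τ` to `ℤ[S, L^#]`. -/
structure CohWith (L : Subgroup G) (S : Finset (G → ℂ)) (τ τ₁ : (G → ℂ) →ₗ[ℂ] (G → ℂ)) :
    Prop where
  iso : ∀ φ ∈ Zs S, ∀ ψ ∈ Zs S, ip ⊤ (τ₁ φ) (τ₁ ψ) = ip L φ ψ
  vchar : ∀ φ ∈ Zs S, τ₁ φ ∈ VChar ⊤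
  agree : ∀ φ ∈ Zs0 S, τ₁ φ = τ φ

/-- PF (5.1). -/
def Coherent (L : Subgroup G) (S : Finset (G → ℂ)) (τ : (G → ℂ) →ₗ[ℂ] (G → ℂ)) : Prop :=
  ∃ τ₁, CohWith L S τ τ₁

/-- The Dade isometry relative to `(A₀(M), M, G)`. -/
noncomputable abbrev tau0 (M : Subgroup G) : (G → ℂ) →ₗ[ℂ] (G → ℂ) := dade (ftA0 M) (ftR M)
/-- The Dade isometry relative to `(A(M), M, G)`. -/
noncomputable abbrev tauA (M : Subgroup G) : (G → ℂ) →ₗ[ℂ] (G → ℂ) := dade (ftA M) (ftR M)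
/-- The Dade isometry relative to `(M_F^#, M, G)`. -/
noncomputable abbrev tauF (M : Subgroup G) : (G → ℂ) →ₗ[ℂ] (G → ℂ) := dade (sharp (MF M)) (ftR M)

/-- PF (9.4): the subgroup `H₀`. -/
structure FcoreKer (M U H₀ : Subgroup G) : Prop where
  chief : ChiefFactor M H₀ (MF M)
  cent : MF M ⊓ 𝐂(U) ≤ H₀

/-- PF (9.7)(b): `U` acts irreducibly on `M_F / H₀`. -/
def GaloisP (M U H₀ : Subgroup G) : Prop :=
  ∀ X : Subgroup G, H₀ ≤ X → X ≤ MF M → U ≤ 𝐍(X) → X = H₀ ∨ X = MF M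

end Cfsg.Agent.FT
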