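/-
Character base library, part 1: `fs`, `CF`, `res`, `cf1`, `ip`, `nsq`.
-/
import Cfsg.Agent.FT.C.Defs

set_option autoImplicit false

namespace Cfsg.Agent.FT

open Subgroup Cfsg Cfsg.Agent
open scoped ComplexConjugate

universe u

variable {G : Type u}

/-! ### `fs` -/

section fs

variable [Finite G]

@[simp] theorem mem_fs {A : Set G} {x : G} : x ∈ fs A ↔ x ∈ A := by
  unfold fs; exact Set.Finite.mem_toFinset _

@[simp] theorem coe_fs (A : Set G) : (fs A : Set G) = A := by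
  ext x; simp

theorem card_fs (A : Set G) : (fs A).card = A.ncard := by
  unfold fs; exact (Set.ncard_eq_toFinset_card A _).symm

theorem fs_subset {A B : Set G} (h : A ⊆ B) : fs A ⊆ fs B := fun x hx => by
  rw [mem_fs] at hx ⊢; exact h hx

theorem sum_fs_congr {M : Type*} [AddCommMonoid M] {A : Set G} {f g : G → M}
    (h : ∀ x ∈ A, f x = g x) : ∑ x ∈ fs A, f x = ∑ x ∈ fs A, g x :=
  Finset.sum_congr rfl fun x hx => h x (mem_fs.1 hx)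

theorem sum_fs_subset {M : Type*} [AddCommMonoid M] {A B : Set G} (h : A ⊆ B) {f : G → M}
    (hf : ∀ x ∈ B, x ∉ A → f x = 0) : ∑ x ∈ fs A, f x = ∑ x ∈ fs B, f x :=
  Finset.sum_subset (fs_subset h) fun x hx hx' => hf x (mem_fs.1 hx) fun h' => hx' (mem_fs.2 h')

theorem sum_fs_union {M : Type*} [AddCommMonoid M] {A B : Set G} (h : Disjoint A B) (f : G → M) :
    ∑ x ∈ fs (A ∪ B), f x = ∑ x ∈ fs A, f x + ∑ x ∈ fs B, f x := by
  classical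
  have h1 : fs (A ∪ B) = fs A ∪ fs B := by ext x; simp
  rw [h1, Finset.sum_union]
  rw [Finset.disjoint_left]
  intro x hx hx'
  exact Set.disjoint_left.1 h (mem_fs.1 hx) (mem_fs.1 hx')

theorem sum_fs_diff {M : Type*} [AddCommMonoid M] {A B : Set G} (h : A ⊆ B) (f : G → M) :
    ∑ x ∈ fs B, f x = ∑ x ∈ fs A, f x + ∑ x ∈ fs (B \ A), f x := by
  rw [← sum_fs_union Set.disjoint_sdiff_right, Set.union_diff_cancel h]

theorem sum_fs_singleton {M : Type*} [AddCommMonoid M] (a : G) (f : G → M) :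
    ∑ x ∈ fs ({a} : Set G), f x = f a := by
  have h1 : fs ({a} : Set G) = {a} := by ext x; simp
  rw [h1, Finset.sum_singleton]

theorem sum_fs_bij {M : Type*} [AddCommMonoid M] {G' : Type*} [Finite G'] {A : Set G} {B : Set G'}
    (e : G → G') (he : Set.BijOn e A B) (f : G' → M) :
    ∑ x ∈ fs A, f (e x) = ∑ y ∈ fs B, f y := by
  refine Finset.sum_nbij e (fun x hx => mem_fs.2 (he.1 (mem_fs.1 hx))) ?_ ?_ fun _ _ => rfl
  · rw [coe_fs]; exact he.2.1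
  · rw [coe_fs, coe_fs]; exact he.2.2

variable [Group G]

theorem card_fs_coe (H : Subgroup G) : (fs (H : Set G)).card = Nat.card H := by
  rw [card_fs]; rfl

theorem sum_fs_coe {M : Type*} [AddCommMonoid M] (H : Subgroup G) [Fintype H] (f : G → M) :
    ∑ x ∈ fs (H : Set G), f x = ∑ x : H, f x :=
  Finset.sum_subtype _ (fun x => by simp) f

theorem sum_fs_top {M : Type*} [AddCommMonoid M] [Fintype G] (f : G → M) :
    ∑ x ∈ fs ((⊤ : Subgroup G) : Set G), f x = ∑ x, f x := by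
  have h1 : fs ((⊤ : Subgroup G) : Set G) = Finset.univ := by ext x; simp
  rw [h1]

theorem sum_fs_const {M : Type*} [AddCommMonoid M] (H : Subgroup G) (c : M) :
    ∑ _x ∈ fs (H : Set G), c = Nat.card H • c := by
  rw [Finset.sum_const, card_fs_coe]

theorem sum_fs_mul_left {M : Type*} [AddCommMonoid M] {H : Subgroup G} {g : G} (hg : g ∈ H)
    (f : G → M) : ∑ x ∈ fs (H : Set G), f (g * x) = ∑ x ∈ fs (H : Set G), f x :=
  sum_fs_bij (fun x => g * x) ⟨fun _ hx => H.mul_mem hg hx, fun _ _ _ _ h => mul_left_cancel h,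
    fun y hy => ⟨g⁻¹ * y, H.mul_mem (H.inv_mem hg) hy, by simp⟩⟩ f

theorem sum_fs_mul_right {M : Type*} [AddCommMonoid M] {H : Subgroup G} {g : G} (hg : g ∈ H)
    (f : G → M) : ∑ x ∈ fs (H : Set G), f (x * g) = ∑ x ∈ fs (H : Set G), f x :=
  sum_fs_bij (fun x => x * g) ⟨fun _ hx => H.mul_mem hx hg, fun _ _ _ _ h => mul_right_cancel h,
    fun y hy => ⟨y * g⁻¹, H.mul_mem hy (H.inv_mem hg), by simp⟩⟩ f

theorem sum_fs_inv {M : Type*} [AddCommMonoid M] (H : Subgroup G) (f : G → M) :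
    ∑ x ∈ fs (H : Set G), f x⁻¹ = ∑ x ∈ fs (H : Set G), f x :=
  sum_fs_bij (fun x => x⁻¹) ⟨fun _ hx => H.inv_mem hx, fun _ _ _ _ h => inv_injective h,
    fun y hy => ⟨y⁻¹, H.inv_mem hy, by simp⟩⟩ f

/-- Reindexing a sum over a set stable under conjugation by `g`. -/
theorem sum_fs_conj_set {M : Type*} [AddCommMonoid M] {A : Set G} {g : G}
    (hg : ∀ x, g * x * g⁻¹ ∈ A ↔ x ∈ A) (f : G → M) :
    ∑ x ∈ fs A, f (g * x * g⁻¹) = ∑ x ∈ fs A, f x :=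
  sum_fs_bij (fun x => g * x * g⁻¹) ⟨fun x hx => (hg x).2 hx,
    fun _ _ _ _ h => mul_left_cancel (mul_right_cancel h),
    fun y hy => ⟨g⁻¹ * y * g, (hg _).1 (by simpa [mul_assoc] using hy), by simp [mul_assoc]⟩⟩ f

theorem sum_fs_conj {M : Type*} [AddCommMonoid M] {H : Subgroup G} {g : G} (hg : g ∈ 𝐍(H))
    (f : G → M) : ∑ x ∈ fs (H : Set G), f (g * x * g⁻¹) = ∑ x ∈ fs (H : Set G), f x :=
  sum_fs_conj_set (fun x => (mem_normalizer_iff.1 hg x).symm) f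

theorem sum_fs_conj' {M : Type*} [AddCommMonoid M] {H : Subgroup G} {g : G} (hg : g ∈ 𝐍(H))
    (f : G → M) : ∑ x ∈ fs (H : Set G), f (g⁻¹ * x * g) = ∑ x ∈ fs (H : Set G), f x := by
  simpa using sum_fs_conj (inv_mem hg) f

theorem sum_fs_sharp {M : Type*} [AddCommMonoid M] (H : Subgroup G) (f : G → M) :
    ∑ x ∈ fs (H : Set G), f x = f 1 + ∑ x ∈ fs (sharp H), f x := by
  rw [sum_fs_diff (A := {1}) (by simp) f, sum_fs_singleton]; rfl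

end fs

theorem card_ne_zero_C [Group G] [Finite G] (H : Subgroup G) : (Nat.card H : ℂ) ≠ 0 := by
  exact_mod_cast Nat.card_pos.ne'

theorem card_ne_zero_R [Group G] [Finite G] (H : Subgroup G) : (Nat.card H : ℝ) ≠ 0 := by
  exact_mod_cast Nat.card_pos.ne'

theorem card_pos_R [Group G] [Finite G] (H : Subgroup G) : (0 : ℝ) < Nat.card H := by
  exact_mod_cast Nat.card_pos

/-! ### `cfAut`, `star` -/

@[simp] theorem cfAut_apply (u : ℂ →+* ℂ) (φ : G → ℂ) (x : G) : cfAut u φ x = u (φ x) := rfl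

theorem star_apply' (φ : G → ℂ) (x : G) : star φ x = conj (φ x) := rfl

theorem cfAut_conj (φ : G → ℂ) : cfAut (starRingEnd ℂ) φ = star φ := rfl

theorem cfAut_add (u : ℂ →+* ℂ) (φ ψ : G → ℂ) : cfAut u (φ + ψ) = cfAut u φ + cfAut u ψ := by
  funext x; simp
theorem cfAut_sub (u : ℂ →+* ℂ) (φ ψ : G → ℂ) : cfAut u (φ - ψ) = cfAut u φ - cfAut u ψ := by
  funext x; simp
theorem cfAut_neg (u : ℂ →+* ℂ) (φ : G → ℂ) : cfAut u (-φ) = -cfAut u φ := by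
  funext x; simp
theorem cfAut_mul (u : ℂ →+* ℂ) (φ ψ : G → ℂ) : cfAut u (φ * ψ) = cfAut u φ * cfAut u ψ := by
  funext x; simp
@[simp] theorem cfAut_zero (u : ℂ →+* ℂ) : cfAut u (0 : G → ℂ) = 0 := by
  funext x; simp
theorem cfAut_smul (u : ℂ →+* ℂ) (c : ℂ) (φ : G → ℂ) : cfAut u (c • φ) = u c • cfAut u φ := by
  funext x; simp
theorem cfAut_zsmul (u : ℂ →+* ℂ) (n : ℤ) (φ : G → ℂ) : cfAut u (n • φ) = n • cfAut u φ := by
  funext x; simp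
theorem cfAut_nsmul (u : ℂ →+* ℂ) (n : ℕ) (φ : G → ℂ) : cfAut u (n • φ) = n • cfAut u φ := by
  funext x; simp
theorem cfAut_sum {ι : Type*} (u : ℂ →+* ℂ) (s : Finset ι) (f : ι → G → ℂ) :
    cfAut u (∑ i ∈ s, f i) = ∑ i ∈ s, cfAut u (f i) := by
  funext x; simp [Finset.sum_apply]
theorem cfAut_injective (u : ℂ →+* ℂ) : Function.Injective (cfAut u : (G → ℂ) → G → ℂ) :=
  fun _ _ h => funext fun x => u.injective (congrFun h x)

theorem zsmul_eq_smul_C (n : ℤ) (φ : G → ℂ) : n • φ = (n : ℂ) • φ :=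
  (Int.cast_smul_eq_zsmul ℂ n φ).symm

theorem nsmul_eq_smul_C (n : ℕ) (φ : G → ℂ) : n • φ = (n : ℂ) • φ :=
  (Nat.cast_smul_eq_nsmul ℂ n φ).symm

theorem mem_Zs_of_mem {S : Finset (G → ℂ)} {φ : G → ℂ} (h : φ ∈ S) : φ ∈ Zs S :=
  Submodule.subset_span h

theorem Zs_mono {S T : Finset (G → ℂ)} (h : S ⊆ T) : Zs S ≤ Zs T :=
  Submodule.span_mono h

theorem mem_Zs_iff {S : Finset (G → ℂ)} {φ : G → ℂ} :
    φ ∈ Zs S ↔ ∃ c : (G → ℂ) → ℤ, φ = ∑ χ ∈ S, c χ • χ := by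
  rw [Submodule.mem_span_finset]
  exact ⟨fun ⟨c, _, h⟩ => ⟨c, h.symm⟩, fun ⟨c, h⟩ => by
    classical
    refine ⟨fun χ => if χ ∈ S then c χ else 0, fun χ hχ => ?_, ?_⟩
    · by_contra h'
      exact hχ (if_neg h')
    · rw [h]; exact Finset.sum_congr rfl fun χ hχ => by simp only [if_pos hχ]⟩

/-- The form with complex scalars (stable under `simp`). -/
theorem mem_Zs_iff' {S : Finset (G → ℂ)} {φ : G → ℂ} :
    φ ∈ Zs S ↔ ∃ c : (G → ℂ) → ℤ, φ = ∑ χ ∈ S, (c χ : ℂ) • χ := by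
  simp only [mem_Zs_iff, zsmul_eq_smul_C]

theorem intCast_smul_mem_Zs {S : Finset (G → ℂ)} {φ : G → ℂ} (h : φ ∈ Zs S) (n : ℤ) :
    (n : ℂ) • φ ∈ Zs S := by
  rw [← zsmul_eq_smul_C]; exact Submodule.smul_mem _ n h

theorem natCast_smul_mem_Zs {S : Finset (G → ℂ)} {φ : G → ℂ} (h : φ ∈ Zs S) (n : ℕ) :
    (n : ℂ) • φ ∈ Zs S := by
  simpa using intCast_smul_mem_Zs h n

/-- A `ℤ`-submodule containing `S` contains `ℤ[S]`. -/
theorem Zs_le_of_subset {S : Finset (G → ℂ)} {P : Submodule ℂ (G → ℂ)} (h : ∀ χ ∈ S, χ ∈ P)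
    {φ : G → ℂ} (hφ : φ ∈ Zs S) : φ ∈ P := by
  obtain ⟨c, rfl⟩ := mem_Zs_iff.1 hφ
  exact Submodule.sum_mem _ fun χ hχ => zsmul_mem (h χ hχ) _

theorem star_mem_Zs {S : Finset (G → ℂ)} (hS : ∀ χ ∈ S, star χ ∈ S) {φ : G → ℂ} (hφ : φ ∈ Zs S) :
    star φ ∈ Zs S := by
  obtain ⟨c, rfl⟩ := mem_Zs_iff.1 hφ
  rw [star_sum]
  exact Submodule.sum_mem _ fun χ hχ => by
    rw [star_zsmul]; exact Submodule.smul_mem _ _ (mem_Zs_of_mem (hS χ hχ))

theorem cfAut_mem_Zs {S : Finset (G → ℂ)} {u : ℂ →+* ℂ} (hS : ∀ χ ∈ S, cfAut u χ ∈ S) {φ : G → ℂ}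
    (hφ : φ ∈ Zs S) : cfAut u φ ∈ Zs S := by
  obtain ⟨c, rfl⟩ := mem_Zs_iff.1 hφ
  rw [cfAut_sum]
  exact Submodule.sum_mem _ fun χ hχ => by
    rw [cfAut_zsmul]; exact Submodule.smul_mem _ _ (mem_Zs_of_mem (hS χ hχ))

theorem map_mem_Zs_image {S : Finset (G → ℂ)} (τ : (G → ℂ) →ₗ[ℂ] (G → ℂ)) {φ : G → ℂ}
    (hφ : φ ∈ Zs S) : τ φ ∈ Zs (S.image τ) := by
  obtain ⟨c, rfl⟩ := mem_Zs_iff.1 hφ
  rw [map_sum]
  exact Submodule.sum_mem _ fun χ hχ => by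
    rw [map_zsmul]; exact Submodule.smul_mem _ _ (mem_Zs_of_mem (Finset.mem_image_of_mem _ hχ))

variable [Group G]

theorem mem_Zs0 {S : Finset (G → ℂ)} {φ : G → ℂ} : φ ∈ Zs0 S ↔ φ ∈ Zs S ∧ φ 1 = 0 := Iff.rfl

theorem Zs0_mono {S T : Finset (G → ℂ)} (h : S ⊆ T) : Zs0 S ≤ Zs0 T :=
  fun _ hφ => ⟨Zs_mono h hφ.1, hφ.2⟩

theorem sub_mem_Zs0 {S : Finset (G → ℂ)} {φ ψ : G → ℂ} (hφ : φ ∈ Zs S) (hψ : ψ ∈ Zs S)
    (h : φ 1 = ψ 1) : φ - ψ ∈ Zs0 S :=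
  ⟨sub_mem hφ hψ, by simp [h]⟩

/-! ### `CF` -/

theorem mem_CF {H : Subgroup G} {φ : G → ℂ} :
    φ ∈ CF H ↔ (∀ x, x ∉ H → φ x = 0) ∧ ∀ g ∈ H, ∀ x, φ (g * x * g⁻¹) = φ x := Iff.rfl

theorem mem_CF_of {H : Subgroup G} {φ : G → ℂ} (h0 : ∀ x, x ∉ H → φ x = 0)
    (h : ∀ g ∈ H, ∀ x ∈ H, φ (g * x * g⁻¹) = φ x) : φ ∈ CF H := by
  refine ⟨h0, fun g hg x => ?_⟩
  by_cases hx : x ∈ H
  · exact h g hg x hx
  · rw [h0 x hx, h0]
    intro h'
    exact hx (by simpa [mul_assoc] using H.mul_mem (H.mul_mem (H.inv_mem hg) h') hg)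

theorem CF_off {H : Subgroup G} {φ : G → ℂ} (h : φ ∈ CF H) {x : G} (hx : x ∉ H) : φ x = 0 :=
  h.1 x hx

theorem CF_conj {H : Subgroup G} {φ : G → ℂ} (h : φ ∈ CF H) {g : G} (hg : g ∈ H) (x : G) :
    φ (g * x * g⁻¹) = φ x := h.2 g hg x

theorem CF_conj' {H : Subgroup G} {φ : G → ℂ} (h : φ ∈ CF H) {g : G} (hg : g ∈ H) (x : G) :
    φ (g⁻¹ * x * g) = φ x := by simpa using h.2 g⁻¹ (H.inv_mem hg) x

theorem CF_mul_comm {H : Subgroup G} {φ : G → ℂ} (h : φ ∈ CF H) {g : G} (hg : g ∈ H) (x : G) :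
    φ (g * x) = φ (x * g) := by
  rw [← CF_conj h hg (x * g)]; congr 1; group

theorem CF_ext {H : Subgroup G} {φ ψ : G → ℂ} (hφ : φ ∈ CF H) (hψ : ψ ∈ CF H)
    (h : ∀ x ∈ H, φ x = ψ x) : φ = ψ := by
  funext x
  by_cases hx : x ∈ H
  · exact h x hx
  · rw [CF_off hφ hx, CF_off hψ hx]

theorem mul_mem_CF {H : Subgroup G} {φ ψ : G → ℂ} (hφ : φ ∈ CF H) (hψ : ψ ∈ CF H) :
    φ * ψ ∈ CF H :=
  ⟨fun x hx => by simp [CF_off hφ hx], fun g hg x => by simp [CF_conj hφ hg, CF_conj hψ hg]⟩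

/-- The product of a class function of `K` with a class function of an overgroup. -/
theorem mul_mem_CF_of_le {K H : Subgroup G} (hK : K ≤ H) {φ ψ : G → ℂ} (hφ : φ ∈ CF K)
    (hψ : ψ ∈ CF H) : φ * ψ ∈ CF K :=
  ⟨fun x hx => by simp [CF_off hφ hx], fun g hg x => by simp [CF_conj hφ hg, CF_conj hψ (hK hg)]⟩

theorem cfAut_mem_CF {H : Subgroup G} {φ : G → ℂ} (u : ℂ →+* ℂ) (hφ : φ ∈ CF H) :
    cfAut u φ ∈ CF H :=
  ⟨fun x hx => by simp [CF_off hφ hx], fun g hg x => by simp [CF_conj hφ hg]⟩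

theorem star_mem_CF {H : Subgroup G} {φ : G → ℂ} (hφ : φ ∈ CF H) : star φ ∈ CF H :=
  cfAut_mem_CF (starRingEnd ℂ) hφ

theorem mem_CF_of_comm {H : Subgroup G} (hH : IsMulCommutative H) {φ : G → ℂ}
    (h0 : ∀ x, x ∉ H → φ x = 0) : φ ∈ CF H :=
  mem_CF_of h0 fun g hg x hx => by
    have : g * x = x * g := congrArg Subtype.val (hH.is_comm.comm (⟨g, hg⟩ : H) ⟨x, hx⟩)
    rw [this, mul_inv_cancel_right]

theorem isClassFunction_of_mem_CF {H : Subgroup G} {φ : G → ℂ} (h : φ ∈ CF H) :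
    IsClassFunction H (fun x : H => φ x) := fun g k => CF_conj h k.2 g

theorem mem_CFon {H : Subgroup G} {A : Set G} {φ : G → ℂ} :
    φ ∈ CFon H A ↔ φ ∈ CF H ∧ ∀ x, x ∉ A → φ x = 0 := Iff.rfl

theorem mem_CFon_of {H : Subgroup G} {A : Set G} {φ : G → ℂ} (h : φ ∈ CF H)
    (h0 : ∀ x ∈ H, x ∉ A → φ x = 0) : φ ∈ CFon H A :=
  ⟨h, fun x hx => by
    by_cases hxH : x ∈ H
    · exact h0 x hxH hx
    · exact CF_off h hxH⟩

theorem CFon_le_CF (H : Subgroup G) (A : Set G) : CFon H A ≤ CF H := fun _ h => h.1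

theorem CFon_off {H : Subgroup G} {A : Set G} {φ : G → ℂ} (h : φ ∈ CFon H A) {x : G}
    (hx : x ∉ A) : φ x = 0 := h.2 x hx

theorem CFon_mono (H : Subgroup G) {A B : Set G} (h : A ⊆ B) : CFon H A ≤ CFon H B :=
  fun _ hφ => ⟨hφ.1, fun x hx => hφ.2 x fun hx' => hx (h hx')⟩

theorem cfAut_mem_CFon {H : Subgroup G} {A : Set G} {φ : G → ℂ} (u : ℂ →+* ℂ)
    (hφ : φ ∈ CFon H A) : cfAut u φ ∈ CFon H A :=
  ⟨cfAut_mem_CF u hφ.1, fun x hx => by simp [hφ.2 x hx]⟩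

theorem star_mem_CFon {H : Subgroup G} {A : Set G} {φ : G → ℂ} (hφ : φ ∈ CFon H A) :
    star φ ∈ CFon H A := cfAut_mem_CFon (starRingEnd ℂ) hφ

/-- From `CF(H, {1} ∪ A)` to `CF(H, A)`. -/
theorem mem_CFon_of_insert_one {H : Subgroup G} {A : Set G} {φ : G → ℂ}
    (hφ : φ ∈ CFon H (insert 1 A)) (h1 : φ 1 = 0) : φ ∈ CFon H A :=
  ⟨hφ.1, fun x hx => by
    by_cases h : x = 1
    · rw [h, h1]
    · exact hφ.2 x (by simp [h, hx])⟩

theorem mem_CFon_sharp {H K : Subgroup G} {φ : G → ℂ} (hφ : φ ∈ CFon H (K : Set G))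
    (h1 : φ 1 = 0) : φ ∈ CFon H (sharp K) :=
  mem_CFon_of_insert_one (CFon_mono H (fun x hx => by
    by_cases h : x = 1
    · exact Or.inl h
    · exact Or.inr ⟨hx, h⟩) hφ) h1

theorem Zs0_le_CFon {H : Subgroup G} {A : Set G} {S : Finset (G → ℂ)}
    (hS : ∀ χ ∈ S, χ ∈ CFon H (insert 1 A)) {φ : G → ℂ} (hφ : φ ∈ Zs0 S) : φ ∈ CFon H A :=
  mem_CFon_of_insert_one (Zs_le_of_subset hS hφ.1) hφ.2

/-! ### `res`, `cf1` -/

theorem res_of_mem {H : Subgroup G} (φ : G → ℂ) {x : G} (hx : x ∈ H) : res H φ x = φ x :=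
  Set.indicator_of_mem (s := (H : Set G)) hx φ

theorem res_of_notMem {H : Subgroup G} (φ : G → ℂ) {x : G} (hx : x ∉ H) : res H φ x = 0 :=
  Set.indicator_of_notMem (s := (H : Set G)) hx φ

@[simp] theorem res_one (H : Subgroup G) (φ : G → ℂ) : res H φ 1 = φ 1 := res_of_mem φ H.one_mem

theorem res_eq_self {H : Subgroup G} {φ : G → ℂ} (h : ∀ x, x ∉ H → φ x = 0) : res H φ = φ := by
  funext x
  by_cases hx : x ∈ H
  · exact res_of_mem φ hx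
  · rw [res_of_notMem φ hx, h x hx]

theorem res_of_mem_CF {H : Subgroup G} {φ : G → ℂ} (h : φ ∈ CF H) : res H φ = φ :=
  res_eq_self h.1

@[simp] theorem res_top (φ : G → ℂ) : res ⊤ φ = φ := res_eq_self fun _ hx => (hx (mem_top _)).elim

theorem res_res {K H : Subgroup G} (h : K ≤ H) (φ : G → ℂ) : res K (res H φ) = res K φ := by
  funext x
  by_cases hx : x ∈ K
  · rw [res_of_mem _ hx, res_of_mem _ hx, res_of_mem _ (h hx)]
  · rw [res_of_notMem _ hx, res_of_notMem _ hx]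

@[simp] theorem res_res_self (H : Subgroup G) (φ : G → ℂ) : res H (res H φ) = res H φ :=
  res_res le_rfl φ

theorem res_congr {H : Subgroup G} {φ ψ : G → ℂ} (h : ∀ x ∈ H, φ x = ψ x) : res H φ = res H ψ := by
  funext x
  by_cases hx : x ∈ H
  · rw [res_of_mem _ hx, res_of_mem _ hx, h x hx]
  · rw [res_of_notMem _ hx, res_of_notMem _ hx]

theorem res_mem_CF {K H : Subgroup G} (h : K ≤ H) {φ : G → ℂ} (hφ : φ ∈ CF H) : res K φ ∈ CF K :=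
  mem_CF_of (fun _ hx => res_of_notMem φ hx) fun g hg x hx => by
    rw [res_of_mem _ hx, res_of_mem _ (K.mul_mem (K.mul_mem hg hx) (K.inv_mem hg)),
      CF_conj hφ (h hg)]

theorem res_mul (H : Subgroup G) (φ ψ : G → ℂ) : res H (φ * ψ) = res H φ * res H ψ := by
  funext x
  by_cases hx : x ∈ H
  · simp [res_of_mem _ hx]
  · simp [res_of_notMem _ hx]

theorem res_mul_left (H : Subgroup G) (φ ψ : G → ℂ) : res H (φ * ψ) = res H φ * ψ := by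
  funext x
  by_cases hx : x ∈ H
  · simp [res_of_mem _ hx]
  · simp [res_of_notMem _ hx]

theorem res_cfAut (H : Subgroup G) (u : ℂ →+* ℂ) (φ : G → ℂ) :
    res H (cfAut u φ) = cfAut u (res H φ) := by
  funext x
  by_cases hx : x ∈ H
  · simp [res_of_mem _ hx]
  · simp [res_of_notMem _ hx]

theorem res_star (H : Subgroup G) (φ : G → ℂ) : res H (star φ) = star (res H φ) :=
  res_cfAut H (starRingEnd ℂ) φ

theorem cf1_of_mem {H : Subgroup G} {x : G} (hx : x ∈ H) : cf1 H x = 1 := res_of_mem _ hx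

theorem cf1_of_notMem {H : Subgroup G} {x : G} (hx : x ∉ H) : cf1 H x = 0 := res_of_notMem _ hx

@[simp] theorem cf1_one (H : Subgroup G) : cf1 H 1 = 1 := cf1_of_mem H.one_mem

@[simp] theorem cf1_top_apply (x : G) : cf1 (⊤ : Subgroup G) x = 1 := cf1_of_mem (mem_top x)

theorem cf1_mem_CF (H : Subgroup G) : cf1 H ∈ CF H :=
  mem_CF_of (fun _ hx => cf1_of_notMem hx) fun g hg x hx => by
    rw [cf1_of_mem hx, cf1_of_mem (H.mul_mem (H.mul_mem hg hx) (H.inv_mem hg))]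

theorem res_cf1 {K H : Subgroup G} (h : K ≤ H) : res K (cf1 H) = cf1 K := res_res h 1

theorem cf1_mul_eq_res (H : Subgroup G) (φ : G → ℂ) : cf1 H * φ = res H φ := by
  rw [cf1, ← res_mul_left, one_mul]

theorem cf1_mul {H : Subgroup G} {φ : G → ℂ} (h : φ ∈ CF H) : cf1 H * φ = φ := by
  rw [cf1_mul_eq_res, res_of_mem_CF h]

theorem mul_cf1 {H : Subgroup G} {φ : G → ℂ} (h : φ ∈ CF H) : φ * cf1 H = φ := by
  rw [mul_comm, cf1_mul h]

@[simp] theorem cfAut_cf1 (u : ℂ →+* ℂ) (H : Subgroup G) : cfAut u (cf1 H) = cf1 H := by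
  funext x
  by_cases hx : x ∈ H
  · simp [cf1_of_mem hx]
  · simp [cf1_of_notMem hx]

@[simp] theorem star_cf1 (H : Subgroup G) : star (cf1 H) = cf1 H := cfAut_cf1 (starRingEnd ℂ) H

/-! ### `ip`, `nsq` -/

variable [Finite G]

theorem ip_def (H : Subgroup G) (φ ψ : G → ℂ) :
    ip H φ ψ = (Nat.card H : ℂ)⁻¹ * ∑ x ∈ fs (H : Set G), φ x * conj (ψ x) := rfl

theorem nsq_def (H : Subgroup G) (φ : G → ℂ) :
    nsq H φ = (Nat.card H : ℝ)⁻¹ * ∑ x ∈ fs (H : Set G), ‖φ x‖ ^ 2 := rfl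

theorem ip_eq_classInner (H : Subgroup G) [Fintype H] (φ ψ : G → ℂ) :
    ip H φ ψ = classInner (fun x : H => φ x) (fun x : H => ψ x) := by
  rw [ip_def, sum_fs_coe]; rfl

theorem ip_congr {H : Subgroup G} {φ φ' ψ ψ' : G → ℂ} (h : ∀ x ∈ H, φ x = φ' x)
    (h' : ∀ x ∈ H, ψ x = ψ' x) : ip H φ ψ = ip H φ' ψ' := by
  rw [ip_def, ip_def, sum_fs_congr fun x hx => by rw [h x hx, h' x hx]]

@[simp] theorem ip_add_left (H : Subgroup G) (φ φ' ψ : G → ℂ) :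
    ip H (φ + φ') ψ = ip H φ ψ + ip H φ' ψ := by
  simp [ip_def, add_mul, Finset.sum_add_distrib, mul_add]

@[simp] theorem ip_add_right (H : Subgroup G) (φ ψ ψ' : G → ℂ) :
    ip H φ (ψ + ψ') = ip H φ ψ + ip H φ ψ' := by
  simp [ip_def, Finset.sum_add_distrib, mul_add]

@[simp] theorem ip_smul_left (H : Subgroup G) (c : ℂ) (φ ψ : G → ℂ) :
    ip H (c • φ) ψ = c * ip H φ ψ := by
  simp only [ip_def, Pi.smul_apply, smul_eq_mul, mul_assoc, ← Finset.mul_sum]; ring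

@[simp] theorem ip_smul_right (H : Subgroup G) (c : ℂ) (φ ψ : G → ℂ) :
    ip H φ (c • ψ) = conj c * ip H φ ψ := by
  simp only [ip_def, Pi.smul_apply, smul_eq_mul, map_mul, mul_left_comm _ (conj c),
    ← Finset.mul_sum]

@[simp] theorem ip_zero_left (H : Subgroup G) (ψ : G → ℂ) : ip H 0 ψ = 0 := by simp [ip_def]

@[simp] theorem ip_zero_right (H : Subgroup G) (φ : G → ℂ) : ip H φ 0 = 0 := by simp [ip_def]

@[simp] theorem ip_neg_left (H : Subgroup G) (φ ψ : G → ℂ) : ip H (-φ) ψ = -ip H φ ψ := by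
  simp [ip_def]

@[simp] theorem ip_neg_right (H : Subgroup G) (φ ψ : G → ℂ) : ip H φ (-ψ) = -ip H φ ψ := by
  simp [ip_def]

@[simp] theorem ip_sub_left (H : Subgroup G) (φ φ' ψ : G → ℂ) :
    ip H (φ - φ') ψ = ip H φ ψ - ip H φ' ψ := by
  rw [sub_eq_add_neg, ip_add_left, ip_neg_left, sub_eq_add_neg]

@[simp] theorem ip_sub_right (H : Subgroup G) (φ ψ ψ' : G → ℂ) :
    ip H φ (ψ - ψ') = ip H φ ψ - ip H φ ψ' := by
  rw [sub_eq_add_neg, ip_add_right, ip_neg_right, sub_eq_add_neg]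

@[simp] theorem ip_zsmul_left (H : Subgroup G) (n : ℤ) (φ ψ : G → ℂ) :
    ip H (n • φ) ψ = n * ip H φ ψ := by rw [zsmul_eq_smul_C, ip_smul_left]

@[simp] theorem ip_zsmul_right (H : Subgroup G) (n : ℤ) (φ ψ : G → ℂ) :
    ip H φ (n • ψ) = n * ip H φ ψ := by rw [zsmul_eq_smul_C, ip_smul_right, map_intCast]

@[simp] theorem ip_nsmul_left (H : Subgroup G) (n : ℕ) (φ ψ : G → ℂ) :
    ip H (n • φ) ψ = n * ip H φ ψ := by rw [nsmul_eq_smul_C, ip_smul_left]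

@[simp] theorem ip_nsmul_right (H : Subgroup G) (n : ℕ) (φ ψ : G → ℂ) :
    ip H φ (n • ψ) = n * ip H φ ψ := by rw [nsmul_eq_smul_C, ip_smul_right, map_natCast]

@[simp] theorem ip_intCast_mul_left (H : Subgroup G) (n : ℤ) (φ ψ : G → ℂ) :
    ip H ((n : G → ℂ) * φ) ψ = n * ip H φ ψ := by rw [← zsmul_eq_mul, ip_zsmul_left]

@[simp] theorem ip_intCast_mul_right (H : Subgroup G) (n : ℤ) (φ ψ : G → ℂ) :
    ip H φ ((n : G → ℂ) * ψ) = n * ip H φ ψ := by rw [← zsmul_eq_mul, ip_zsmul_right]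

@[simp] theorem ip_natCast_mul_left (H : Subgroup G) (n : ℕ) (φ ψ : G → ℂ) :
    ip H ((n : G → ℂ) * φ) ψ = n * ip H φ ψ := by rw [← nsmul_eq_mul, ip_nsmul_left]

@[simp] theorem ip_natCast_mul_right (H : Subgroup G) (n : ℕ) (φ ψ : G → ℂ) :
    ip H φ ((n : G → ℂ) * ψ) = n * ip H φ ψ := by rw [← nsmul_eq_mul, ip_nsmul_right]

theorem ip_sum_left {ι : Type*} (H : Subgroup G) (s : Finset ι) (f : ι → G → ℂ) (ψ : G → ℂ) :
    ip H (∑ i ∈ s, f i) ψ = ∑ i ∈ s, ip H (f i) ψ := by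
  classical
  induction s using Finset.induction_on with
  | empty => simp
  | insert a s ha ih => rw [Finset.sum_insert ha, Finset.sum_insert ha, ip_add_left, ih]

theorem ip_sum_right {ι : Type*} (H : Subgroup G) (s : Finset ι) (f : ι → G → ℂ) (φ : G → ℂ) :
    ip H φ (∑ i ∈ s, f i) = ∑ i ∈ s, ip H φ (f i) := by
  classical
  induction s using Finset.induction_on with
  | empty => simp
  | insert a s ha ih => rw [Finset.sum_insert ha, Finset.sum_insert ha, ip_add_right, ih]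

theorem conj_ip (H : Subgroup G) (φ ψ : G → ℂ) : conj (ip H φ ψ) = ip H ψ φ := by
  simp [ip_def, mul_comm]

theorem ip_eq_zero_comm {H : Subgroup G} {φ ψ : G → ℂ} : ip H φ ψ = 0 ↔ ip H ψ φ = 0 := by
  rw [← conj_ip, map_eq_zero]

theorem ip_eq_zero_symm {H : Subgroup G} {φ ψ : G → ℂ} (h : ip H φ ψ = 0) : ip H ψ φ = 0 :=
  ip_eq_zero_comm.1 h

theorem ip_comm_of_int {H : Subgroup G} {φ ψ : G → ℂ} {n : ℤ} (h : ip H φ ψ = n) :
    ip H ψ φ = n := by rw [← conj_ip, h, map_intCast]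

theorem ip_star_star (H : Subgroup G) (φ ψ : G → ℂ) : ip H (star φ) (star ψ) = ip H ψ φ := by
  simp [ip_def, mul_comm]

theorem ip_star_left (H : Subgroup G) (φ ψ : G → ℂ) : ip H (star φ) ψ = ip H (star ψ) φ := by
  simp [ip_def, mul_comm]

theorem ip_star_right (H : Subgroup G) (φ ψ : G → ℂ) : ip H φ (star ψ) = ip H ψ (star φ) := by
  simp [ip_def, mul_comm]

theorem ip_mul_left (H : Subgroup G) (φ χ ψ : G → ℂ) :
    ip H (φ * χ) ψ = ip H φ (star χ * ψ) := by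
  simp [ip_def, mul_assoc]

theorem ip_res_left (H : Subgroup G) (φ ψ : G → ℂ) : ip H (res H φ) ψ = ip H φ ψ :=
  ip_congr (fun _ hx => res_of_mem φ hx) fun _ _ => rfl

theorem ip_res_right (H : Subgroup G) (φ ψ : G → ℂ) : ip H φ (res H ψ) = ip H φ ψ :=
  ip_congr (fun _ _ => rfl) fun _ hx => res_of_mem ψ hx

theorem ip_self (H : Subgroup G) (φ : G → ℂ) : ip H φ φ = (nsq H φ : ℝ) := by
  simp [ip_def, nsq_def, Complex.mul_conj, Complex.normSq_eq_norm_sq]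

theorem nsq_eq_re (H : Subgroup G) (φ : G → ℂ) : nsq H φ = (ip H φ φ).re := by
  rw [ip_self, Complex.ofReal_re]

theorem nsq_eq_of_ip {H : Subgroup G} {φ : G → ℂ} {r : ℝ} (h : ip H φ φ = r) : nsq H φ = r := by
  rw [nsq_eq_re, h, Complex.ofReal_re]

theorem nsq_eq_one_iff {H : Subgroup G} {φ : G → ℂ} : nsq H φ = 1 ↔ ip H φ φ = 1 := by
  rw [ip_self, Complex.ofReal_eq_one]

theorem nsq_eq_of_ip_eq {H K : Subgroup G} {φ ψ : G → ℂ} (h : ip H φ φ = ip K ψ ψ) :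
    nsq H φ = nsq K ψ := by rw [nsq_eq_re, nsq_eq_re, h]

theorem nsq_nonneg (H : Subgroup G) (φ : G → ℂ) : 0 ≤ nsq H φ := by
  rw [nsq_def]; positivity

theorem nsq_congr {H : Subgroup G} {φ ψ : G → ℂ} (h : ∀ x ∈ H, φ x = ψ x) : nsq H φ = nsq H ψ :=
  nsq_eq_of_ip_eq (ip_congr h h)

theorem apply_eq_zero_of_nsq {H : Subgroup G} {φ : G → ℂ} (h : nsq H φ = 0) {x : G} (hx : x ∈ H) :
    φ x = 0 := by
  rw [nsq_def, mul_eq_zero] at h
  rcases h with h | h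
  · exact absurd h (inv_ne_zero (card_ne_zero_R H))
  · have := (Finset.sum_eq_zero_iff_of_nonneg (fun _ _ => by positivity)).1 h x (mem_fs.2 hx)
    simpa using this

theorem eq_zero_of_nsq {H : Subgroup G} {φ : G → ℂ} (hφ : φ ∈ CF H) (h : nsq H φ = 0) : φ = 0 :=
  CF_ext hφ (zero_mem _) fun _ hx => apply_eq_zero_of_nsq h hx

theorem eq_zero_of_nsq_top {φ : G → ℂ} (h : nsq ⊤ φ = 0) : φ = 0 :=
  funext fun x => apply_eq_zero_of_nsq h (mem_top x)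

theorem nsq_pos {H : Subgroup G} {φ : G → ℂ} (hφ : φ ∈ CF H) (h : φ ≠ 0) : 0 < nsq H φ :=
  lt_of_le_of_ne (nsq_nonneg H φ) fun h' => h (eq_zero_of_nsq hφ h'.symm)

@[simp] theorem nsq_zero (H : Subgroup G) : nsq H 0 = 0 := by simp [nsq_def]

@[simp] theorem nsq_neg (H : Subgroup G) (φ : G → ℂ) : nsq H (-φ) = nsq H φ := by simp [nsq_def]

@[simp] theorem nsq_star (H : Subgroup G) (φ : G → ℂ) : nsq H (star φ) = nsq H φ := by
  simp [nsq_def]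

theorem nsq_smul (H : Subgroup G) (c : ℂ) (φ : G → ℂ) : nsq H (c • φ) = ‖c‖ ^ 2 * nsq H φ := by
  simp only [nsq_def, Pi.smul_apply, smul_eq_mul, norm_mul, mul_pow, ← Finset.mul_sum]; ring

theorem nsq_real_smul (H : Subgroup G) (c : ℝ) (φ : G → ℂ) :
    nsq H ((c : ℂ) • φ) = c ^ 2 * nsq H φ := by
  rw [nsq_smul, Complex.norm_real, Real.norm_eq_abs, sq_abs]

theorem nsq_int_smul (H : Subgroup G) (n : ℤ) (φ : G → ℂ) :
    nsq H ((n : ℂ) • φ) = n ^ 2 * nsq H φ := by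
  rw [← Complex.ofReal_intCast, nsq_real_smul]

theorem nsq_nat_smul (H : Subgroup G) (n : ℕ) (φ : G → ℂ) :
    nsq H ((n : ℂ) • φ) = n ^ 2 * nsq H φ := by
  rw [← Complex.ofReal_natCast, nsq_real_smul]

theorem nsq_zsmul (H : Subgroup G) (n : ℤ) (φ : G → ℂ) : nsq H (n • φ) = n ^ 2 * nsq H φ := by
  rw [zsmul_eq_smul_C, ← Complex.ofReal_intCast, nsq_real_smul]

theorem nsq_nsmul (H : Subgroup G) (n : ℕ) (φ : G → ℂ) : nsq H (n • φ) = n ^ 2 * nsq H φ := by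
  rw [nsmul_eq_smul_C, ← Complex.ofReal_natCast, nsq_real_smul]

theorem nsq_add (H : Subgroup G) (φ ψ : G → ℂ) :
    nsq H (φ + ψ) = nsq H φ + nsq H ψ + 2 * (ip H φ ψ).re := by
  rw [nsq_eq_re, nsq_eq_re, nsq_eq_re, ip_add_left, ip_add_right, ip_add_right, ← conj_ip H φ ψ]
  simp only [Complex.add_re, Complex.conj_re]; ring

theorem nsq_sub (H : Subgroup G) (φ ψ : G → ℂ) :
    nsq H (φ - ψ) = nsq H φ + nsq H ψ - 2 * (ip H φ ψ).re := by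
  rw [sub_eq_add_neg, nsq_add, nsq_neg, ip_neg_right, Complex.neg_re]; ring

theorem nsq_add_of_orth {H : Subgroup G} {φ ψ : G → ℂ} (h : ip H φ ψ = 0) :
    nsq H (φ + ψ) = nsq H φ + nsq H ψ := by rw [nsq_add, h]; simp

theorem nsq_sub_of_orth {H : Subgroup G} {φ ψ : G → ℂ} (h : ip H φ ψ = 0) :
    nsq H (φ - ψ) = nsq H φ + nsq H ψ := by rw [nsq_sub, h]; simp

theorem nsq_sum_of_orth {ι : Type*} {H : Subgroup G} {s : Finset ι} {f : ι → G → ℂ}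
    (h : ∀ i ∈ s, ∀ j ∈ s, i ≠ j → ip H (f i) (f j) = 0) :
    nsq H (∑ i ∈ s, f i) = ∑ i ∈ s, nsq H (f i) := by
  rw [nsq_eq_re, ip_sum_left, Complex.re_sum]
  refine Finset.sum_congr rfl fun i hi => ?_
  rw [ip_sum_right, Finset.sum_eq_single_of_mem i hi fun j hj hne => h i hi j hj hne.symm, nsq_eq_re]

theorem nsq_res (H : Subgroup G) (φ : G → ℂ) : nsq H (res H φ) = nsq H φ :=
  nsq_congr fun _ hx => res_of_mem φ hx

@[simp] theorem ip_cf1_cf1 (H : Subgroup G) : ip H (cf1 H) (cf1 H) = 1 := by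
  rw [ip_def, sum_fs_congr (g := fun _ => (1 : ℂ)) fun x hx => by simp [cf1_of_mem hx],
    sum_fs_const]
  simp [card_ne_zero_C H]

@[simp] theorem nsq_cf1 (H : Subgroup G) : nsq H (cf1 H) = 1 := nsq_eq_one_iff.2 (ip_cf1_cf1 H)

theorem ip_cf1_right (H : Subgroup G) (φ : G → ℂ) :
    ip H φ (cf1 H) = (Nat.card H : ℂ)⁻¹ * ∑ x ∈ fs (H : Set G), φ x := by
  rw [ip_def, sum_fs_congr (g := φ) fun x hx => by simp [cf1_of_mem hx]]

/-- The inner product only sees the support of the left factor. -/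
theorem ip_eq_sum_of_supp {H : Subgroup G} {A : Set G} (hA : A ⊆ H) {φ : G → ℂ}
    (hφ : ∀ x ∈ H, x ∉ A → φ x = 0) (ψ : G → ℂ) :
    ip H φ ψ = (Nat.card H : ℂ)⁻¹ * ∑ x ∈ fs A, φ x * conj (ψ x) := by
  rw [ip_def, sum_fs_subset hA fun x hx hx' => by rw [hφ x hx hx', zero_mul]]

theorem ip_eq_zero_of_disjoint {H : Subgroup G} {φ ψ : G → ℂ} (h : ∀ x ∈ H, φ x = 0 ∨ ψ x = 0) :
    ip H φ ψ = 0 := by
  rw [ip_def, Finset.sum_eq_zero, mul_zero]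
  intro x hx
  rcases h x (mem_fs.1 hx) with h | h <;> simp [h]

theorem ip_congr_of_supp {H : Subgroup G} {A : Set G} {φ ψ ψ' : G → ℂ}
    (hφ : ∀ x ∈ H, x ∉ A → φ x = 0) (h : ∀ x ∈ A, ψ x = ψ' x) : ip H φ ψ = ip H φ ψ' := by
  rw [ip_def, ip_def]
  congr 1
  refine sum_fs_congr fun x hx => ?_
  by_cases hA : x ∈ A
  · rw [h x hA]
  · rw [hφ x hx hA, zero_mul, zero_mul]

/-- Cauchy-Schwarz. -/
theorem norm_ip_sq_le (H : Subgroup G) (φ ψ : G → ℂ) : ‖ip H φ ψ‖ ^ 2 ≤ nsq H φ * nsq H ψ := by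
  have h1 : ‖∑ x ∈ fs (H : Set G), φ x * conj (ψ x)‖ ≤ ∑ x ∈ fs (H : Set G), ‖φ x‖ * ‖ψ x‖ :=
    (norm_sum_le _ _).trans (le_of_eq (Finset.sum_congr rfl fun x _ => by simp))
  have h2 := Finset.sum_mul_sq_le_sq_mul_sq (fs (H : Set G)) (fun x => ‖φ x‖) (fun x => ‖ψ x‖)
  have h3 := (pow_le_pow_left₀ (norm_nonneg _) h1 2).trans h2
  rw [ip_def, nsq_def, nsq_def, norm_mul, mul_pow, norm_inv, Complex.norm_natCast]
  calc _ ≤ ((Nat.card H : ℝ)⁻¹) ^ 2 * _ := mul_le_mul_of_nonneg_left h3 (by positivity)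
    _ = _ := by ring

theorem ip_eq_zero_of_mem_Zs_left {H : Subgroup G} {S : Finset (G → ℂ)} {φ ψ : G → ℂ}
    (hφ : φ ∈ Zs S) (h : ∀ χ ∈ S, ip H χ ψ = 0) : ip H φ ψ = 0 := by
  obtain ⟨c, rfl⟩ := mem_Zs_iff.1 hφ
  rw [ip_sum_left]
  exact Finset.sum_eq_zero fun χ hχ => by rw [ip_zsmul_left, h χ hχ, mul_zero]

theorem ip_eq_zero_of_mem_Zs_right {H : Subgroup G} {S : Finset (G → ℂ)} {φ ψ : G → ℂ}
    (hψ : ψ ∈ Zs S) (h : ∀ χ ∈ S, ip H φ χ = 0) : ip H φ ψ = 0 :=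
  ip_eq_zero_symm (ip_eq_zero_of_mem_Zs_left hψ fun χ hχ => ip_eq_zero_symm (h χ hχ))

/-- An isometry on generators is an isometry on `ℤ[S]`. -/
theorem iso_Zs_of_gen {X L : Subgroup G} {S : Finset (G → ℂ)} {τ : (G → ℂ) →ₗ[ℂ] (G → ℂ)}
    (h : ∀ χ ∈ S, ∀ ψ ∈ S, ip X (τ χ) (τ ψ) = ip L χ ψ) :
    ∀ φ ∈ Zs S, ∀ ψ ∈ Zs S, ip X (τ φ) (τ ψ) = ip L φ ψ := by
  intro φ hφ ψ hψ
  obtain ⟨c, rfl⟩ := mem_Zs_iff.1 hφ
  obtain ⟨d, rfl⟩ := mem_Zs_iff.1 hψ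
  simp only [map_sum, map_zsmul, ip_sum_left, ip_sum_right, ip_zsmul_left, ip_zsmul_right]
  refine Finset.sum_congr rfl fun χ hχ => ?_
  rw [Finset.sum_congr rfl fun ψ hψ => by rw [h ψ hψ χ hχ]]

theorem map_mem_of_mem_Zs {S : Finset (G → ℂ)} {τ : (G → ℂ) →ₗ[ℂ] (G → ℂ)}
    {P : Submodule ℤ (G → ℂ)} (h : ∀ χ ∈ S, τ χ ∈ P) {φ : G → ℂ} (hφ : φ ∈ Zs S) : τ φ ∈ P := by
  obtain ⟨c, rfl⟩ := mem_Zs_iff.1 hφ
  rw [map_sum]
  exact Submodule.sum_mem _ fun χ hχ => by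
    rw [map_zsmul]; exact Submodule.smul_mem _ _ (h χ hχ)

theorem map_eq_of_mem_Zs {S : Finset (G → ℂ)} {τ τ' : (G → ℂ) →ₗ[ℂ] (G → ℂ)}
    (h : ∀ χ ∈ S, τ χ = τ' χ) {φ : G → ℂ} (hφ : φ ∈ Zs S) : τ φ = τ' φ := by
  obtain ⟨c, rfl⟩ := mem_Zs_iff.1 hφ
  rw [map_sum, map_sum]
  exact Finset.sum_congr rfl fun χ hχ => by rw [map_zsmul, map_zsmul, h χ hχ]

/-! ### Orthogonal and orthonormal families -/

theorem linearIndepOn_of_orth {H : Subgroup G} {S : Finset (G → ℂ)}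
    (h0 : ∀ χ ∈ S, nsq H χ ≠ 0) (h : ∀ χ ∈ S, ∀ ψ ∈ S, χ ≠ ψ → ip H χ ψ = 0) :
    LinearIndepOn ℂ id (S : Set (G → ℂ)) := by
  rw [LinearIndepOn, linearIndependent_iff']
  intro t c hc i hi
  have := congrArg (fun φ => ip H φ i.1) hc
  simp only [ip_sum_left, ip_smul_left, ip_zero_left, id] at this
  rw [Finset.sum_eq_single_of_mem i hi fun j _ hne => by
    rw [h j.1 j.2 i.1 i.2 fun e => hne (Subtype.ext e), mul_zero], ip_self] at this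
  exact (mul_eq_zero.1 this).resolve_right (by exact_mod_cast h0 i.1 i.2)

/-- A linear map with prescribed values on an orthogonal family. -/
theorem exists_linear_of_orth {H : Subgroup G} {S : Finset (G → ℂ)}
    (h0 : ∀ χ ∈ S, nsq H χ ≠ 0) (h : ∀ χ ∈ S, ∀ ψ ∈ S, χ ≠ ψ → ip H χ ψ = 0)
    (f : (G → ℂ) → G → ℂ) : ∃ τ : (G → ℂ) →ₗ[ℂ] (G → ℂ), ∀ χ ∈ S, τ χ = f χ := by
  let π : (G → ℂ) → (G → ℂ) →ₗ[ℂ] ℂ := fun χ =>
    { toFun := fun φ => ip H φ χ / nsq H χ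
      map_add' := fun φ ψ => by rw [ip_add_left, add_div]
      map_smul' := fun c φ => by simp [mul_div_assoc] }
  refine ⟨∑ χ ∈ S, (π χ).smulRight (f χ), fun χ hχ => ?_⟩
  rw [LinearMap.sum_apply, Finset.sum_eq_single_of_mem χ hχ]
  · have : (nsq H χ : ℂ) ≠ 0 := by exact_mod_cast h0 χ hχ
    simp [π, ip_self, div_self this]
  · intro ψ hψ hne
    simp [π, h χ hχ ψ hψ hne.symm]

theorem ON.ip_eq {H : Subgroup G} {E : Finset (G → ℂ)} (h : ON H E) {α β : G → ℂ} (hα : α ∈ E)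
    (hβ : β ∈ E) : ip H α β = if α = β then 1 else 0 := by
  split_ifs with e
  · rw [← e]; exact h.1 α hα
  · exact h.2 α hα β hβ e

theorem ON.nsq {H : Subgroup G} {E : Finset (G → ℂ)} (h : ON H E) {α : G → ℂ} (hα : α ∈ E) :
    nsq H α = 1 := nsq_eq_one_iff.2 (h.1 α hα)

theorem ON.mono {H : Subgroup G} {E F : Finset (G → ℂ)} (h : ON H E) (hF : F ⊆ E) : ON H F :=
  ⟨fun α hα => h.1 α (hF hα), fun α hα β hβ => h.2 α (hF hα) β (hF hβ)⟩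

theorem ON.ip_sum_smul {H : Subgroup G} {E : Finset (G → ℂ)} (h : ON H E) (c : (G → ℂ) → ℂ)
    {β : G → ℂ} (hβ : β ∈ E) : ip H (∑ α ∈ E, c α • α) β = c β := by
  rw [ip_sum_left, Finset.sum_eq_single_of_mem β hβ fun α hα hne => by
    rw [ip_smul_left, h.2 α hα β hβ hne, mul_zero], ip_smul_left, h.1 β hβ, mul_one]

theorem ON.nsq_sum_smul {H : Subgroup G} {E : Finset (G → ℂ)} (h : ON H E) (c : (G → ℂ) → ℂ) :
    FT.nsq H (∑ α ∈ E, c α • α) = ∑ α ∈ E, ‖c α‖ ^ 2 := by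
  rw [nsq_sum_of_orth fun α hα β hβ hne => by simp [h.2 α hα β hβ hne]]
  exact Finset.sum_congr rfl fun α hα => by rw [nsq_smul, h.nsq hα, mul_one]

theorem ON.nsq_sum_int_smul {H : Subgroup G} {E : Finset (G → ℂ)} (h : ON H E)
    (c : (G → ℂ) → ℤ) : FT.nsq H (∑ α ∈ E, (c α : ℂ) • α) = ∑ α ∈ E, (c α : ℝ) ^ 2 := by
  rw [h.nsq_sum_smul]
  exact Finset.sum_congr rfl fun α _ => by rw [Complex.norm_intCast, sq_abs]

theorem ON.nsq_sum {H : Subgroup G} {E : Finset (G → ℂ)} (h : ON H E) :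
    FT.nsq H (∑ α ∈ E, α) = E.card := by
  rw [nsq_sum_of_orth h.2, Finset.sum_congr rfl fun α hα => h.nsq hα]; simp

theorem ON.ip_sum {H : Subgroup G} {E F : Finset (G → ℂ)} (h : ON H E) (hF : F ⊆ E) {β : G → ℂ}
    (hβ : β ∈ E) : ip H (∑ α ∈ F, α) β = if β ∈ F then 1 else 0 := by
  rw [ip_sum_left, Finset.sum_congr rfl fun α hα => h.ip_eq (hF hα) hβ, Finset.sum_ite_eq']

/-- The component of `φ` orthogonal to an orthonormal family. -/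
theorem ON.ip_sub_proj {H : Subgroup G} {E : Finset (G → ℂ)} (h : ON H E) (φ : G → ℂ)
    {β : G → ℂ} (hβ : β ∈ E) : ip H (φ - ∑ α ∈ E, ip H φ α • α) β = 0 := by
  rw [ip_sub_left, h.ip_sum_smul _ hβ, sub_self]

/-- Pythagoras for the projection on an orthonormal family. -/
theorem ON.nsq_eq_proj {H : Subgroup G} {E : Finset (G → ℂ)} (h : ON H E) (φ : G → ℂ) :
    FT.nsq H φ = ∑ α ∈ E, ‖ip H φ α‖ ^ 2 + FT.nsq H (φ - ∑ α ∈ E, ip H φ α • α) := by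
  rw [← h.nsq_sum_smul, ← nsq_add_of_orth, add_sub_cancel]
  rw [ip_sum_left]
  exact Finset.sum_eq_zero fun α hα => by
    rw [ip_smul_left, ip_eq_zero_symm (h.ip_sub_proj φ hα), mul_zero]

/-- Bessel's inequality. -/
theorem ON.bessel {H : Subgroup G} {E : Finset (G → ℂ)} (h : ON H E) (φ : G → ℂ) :
    ∑ α ∈ E, ‖ip H φ α‖ ^ 2 ≤ FT.nsq H φ := by
  rw [h.nsq_eq_proj φ]; exact le_add_of_nonneg_right (nsq_nonneg _ _)

end Cfsg.Agent.FT
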