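/-
Character base library, part 2: characters, irreducible, linear and virtual characters.
-/
import Cfsg.Agent.FT.C.Basic
import Cfsg.Agent.H5.FrobSchur

set_option autoImplicit false

namespace Cfsg.Agent.FT

open Subgroup Cfsg Cfsg.Agent
open scoped ComplexConjugate

universe u

variable {G : Type u} [Group G]

/-! ### Characters -/

theorem IsChar.off {H : Subgroup G} {φ : G → ℂ} (h : IsChar H φ) {x : G} (hx : x ∉ H) : φ x = 0 :=
  h.1 x hx

theorem IsChar.mem_CF {H : Subgroup G} {φ : G → ℂ} (h : IsChar H φ) : φ ∈ CF H :=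
  mem_CF_of h.1 fun g hg x hx => h.2.isClassFunction ⟨x, hx⟩ ⟨g, hg⟩

theorem isChar_extendByZero {H : Subgroup G} {θ : H → ℂ} (h : IsCharacter H θ) :
    IsChar H (extendByZero H θ) :=
  ⟨fun _ hx => H6.extendByZero_of_not_mem H θ hx, by
    simpa only [H6.extendByZero_coe] using h⟩

theorem isChar_top_iff {φ : G → ℂ} : IsChar ⊤ φ ↔ IsCharacter G φ :=
  ⟨fun h => h.2.comp (Subgroup.topEquiv (G := G)).symm.toMonoidHom,
    fun h => ⟨fun _ hx => (hx (mem_top _)).elim, h.restrict ⊤⟩⟩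

theorem isChar_zero (H : Subgroup G) : IsChar H 0 := ⟨fun _ _ => rfl, H6.isCharacter_zero⟩

theorem IsChar.add {H : Subgroup G} {φ ψ : G → ℂ} (h : IsChar H φ) (h' : IsChar H ψ) :
    IsChar H (φ + ψ) :=
  ⟨fun x hx => by simp [h.off hx, h'.off hx], h.2.add h'.2⟩

theorem IsChar.mul {H : Subgroup G} {φ ψ : G → ℂ} (h : IsChar H φ) (h' : IsChar H ψ) :
    IsChar H (φ * ψ) :=
  ⟨fun x hx => by simp [h.off hx], h.2.mul h'.2⟩

theorem IsChar.sum {ι : Type*} {H : Subgroup G} {s : Finset ι} {f : ι → G → ℂ}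
    (h : ∀ i ∈ s, IsChar H (f i)) : IsChar H (∑ i ∈ s, f i) :=
  Finset.sum_induction f (IsChar H) (fun _ _ => IsChar.add) (isChar_zero H) h

theorem IsChar.nsmul {H : Subgroup G} {φ : G → ℂ} (h : IsChar H φ) (n : ℕ) : IsChar H (n • φ) := by
  induction n with
  | zero => rw [zero_smul]; exact isChar_zero H
  | succ n ih => rw [succ_nsmul]; exact ih.add h

theorem IsChar.nat_smul {H : Subgroup G} {φ : G → ℂ} (h : IsChar H φ) (n : ℕ) :
    IsChar H ((n : ℂ) • φ) := by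
  rw [← nsmul_eq_smul_C]; exact h.nsmul n

theorem IsChar.res {K H : Subgroup G} (hK : K ≤ H) {φ : G → ℂ} (h : IsChar H φ) :
    IsChar K (res K φ) :=
  ⟨fun _ hx => res_of_notMem φ hx, by
    have := h.2.comp (Subgroup.inclusion hK)
    convert this using 2 with x
    exact res_of_mem φ x.2⟩

theorem IsChar.one_eq {H : Subgroup G} {φ : G → ℂ} (h : IsChar H φ) : φ 1 = dg φ := by
  obtain ⟨n, hn⟩ := h.2.exists_nat_one
  have hn' : φ 1 = n := hn
  simp [dg, hn']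

theorem dg_eq_of {φ : G → ℂ} {n : ℕ} (h : φ 1 = n) : dg φ = n := by simp [dg, h]

theorem dg_congr {φ ψ : G → ℂ} (h : φ 1 = ψ 1) : dg φ = dg ψ := by rw [dg, dg, h]

@[simp] theorem dg_res (H : Subgroup G) (φ : G → ℂ) : dg (res H φ) = dg φ := dg_congr (res_one H φ)

@[simp] theorem dg_star (φ : G → ℂ) : dg (star φ) = dg φ := by simp [dg]

@[simp] theorem dg_cf1 (H : Subgroup G) : dg (cf1 H) = 1 := dg_eq_of (by simp)

theorem IsChar.one_eq_iff {H K : Subgroup G} {φ ψ : G → ℂ} (h : IsChar H φ) (h' : IsChar K ψ) :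
    φ 1 = ψ 1 ↔ dg φ = dg ψ := by rw [h.one_eq, h'.one_eq, Nat.cast_inj]

theorem IsChar.star_one {H : Subgroup G} {φ : G → ℂ} (h : IsChar H φ) : star φ 1 = φ 1 := by
  rw [star_apply', h.one_eq, map_natCast]

theorem IsChar.cfAut_one {H : Subgroup G} {φ : G → ℂ} (h : IsChar H φ) (u : ℂ →+* ℂ) :
    cfAut u φ 1 = φ 1 := by
  rw [cfAut_apply, h.one_eq, map_natCast]

theorem IsChar.dg_add {H K : Subgroup G} {φ ψ : G → ℂ} (h : IsChar H φ) (h' : IsChar K ψ) :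
    dg (φ + ψ) = dg φ + dg ψ := dg_eq_of (by simp [h.one_eq, h'.one_eq])

theorem IsChar.dg_mul {H K : Subgroup G} {φ ψ : G → ℂ} (h : IsChar H φ) (h' : IsChar K ψ) :
    dg (φ * ψ) = dg φ * dg ψ := dg_eq_of (by simp [h.one_eq, h'.one_eq])

/-- Applying a field endomorphism of `ℂ` to the matrices of a representation. -/
theorem isCharacter_ringHom {X : Type*} [Group X] {χ : X → ℂ} (h : IsCharacter X χ)
    (u : ℂ →+* ℂ) : IsCharacter X (fun x => u (χ x)) := by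
  obtain ⟨n, ρ, rfl⟩ := h
  let f : X →* Module.End ℂ (Fin n → ℂ) :=
    ((Matrix.toLinAlgEquiv' (R := ℂ) (n := Fin n)).toMonoidHom.comp
      (u.mapMatrix (m := Fin n)).toMonoidHom).comp
      ((LinearMap.toMatrixAlgEquiv' (R := ℂ) (n := Fin n)).toMonoidHom.comp ρ)
  refine ⟨n, f, ?_⟩
  funext x
  have h1 : ∀ T : Module.End ℂ (Fin n → ℂ),
      LinearMap.trace ℂ _ T = Matrix.trace (LinearMap.toMatrix' T) := fun T => by
    rw [LinearMap.trace_eq_matrix_trace ℂ (Pi.basisFun ℂ (Fin n)), LinearMap.toMatrix_eq_toMatrix']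
  have h2 : LinearMap.toMatrix' (f x) = (LinearMap.toMatrix' (ρ x)).map u :=
    LinearMap.toMatrix'_toLin' _
  show LinearMap.trace ℂ _ (f x) = u (LinearMap.trace ℂ _ (ρ x))
  rw [h1, h1, h2, AddMonoidHom.map_trace]

theorem IsChar.cfAut {H : Subgroup G} {φ : G → ℂ} (h : IsChar H φ) (u : ℂ →+* ℂ) :
    IsChar H (cfAut u φ) :=
  ⟨fun x hx => by simp [h.off hx], isCharacter_ringHom h.2 u⟩

theorem IsChar.star {H : Subgroup G} {φ : G → ℂ} (h : IsChar H φ) : IsChar H (star φ) :=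
  h.cfAut (starRingEnd ℂ)

theorem IsChar.dg_cfAut {H : Subgroup G} {φ : G → ℂ} (h : IsChar H φ) (u : ℂ →+* ℂ) :
    dg (FT.cfAut u φ) = dg φ := dg_congr (h.cfAut_one u)

variable [Finite G]

theorem IsChar.apply_inv {H : Subgroup G} {φ : G → ℂ} (h : IsChar H φ) (x : G) :
    φ x⁻¹ = conj (φ x) := by
  by_cases hx : x ∈ H
  · exact h.2.apply_inv ⟨x, hx⟩
  · rw [h.off hx, h.off (fun h' => hx (by simpa using H.inv_mem h')), map_zero]

theorem IsChar.isIntegral {H : Subgroup G} {φ : G → ℂ} (h : IsChar H φ) (x : G) :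
    IsIntegral ℤ (φ x) := by
  by_cases hx : x ∈ H
  · exact h.2.isIntegral ⟨x, hx⟩
  · rw [h.off hx]; exact isIntegral_zero

theorem IsChar.norm_le {H : Subgroup G} {φ : G → ℂ} (h : IsChar H φ) (x : G) : ‖φ x‖ ≤ dg φ := by
  by_cases hx : x ∈ H
  · have := h.2.norm_le ⟨x, hx⟩
    have h1 : ‖φ 1‖ = dg φ := by rw [h.one_eq, Complex.norm_natCast]
    rw [← h1]; exact this
  · rw [h.off hx, norm_zero]; positivity

theorem IsChar.eq_zero_of_dg {H : Subgroup G} {φ : G → ℂ} (h : IsChar H φ) (h0 : dg φ = 0) :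
    φ = 0 := funext fun x => by
  have := h.norm_le x
  rw [h0, Nat.cast_zero] at this
  exact norm_le_zero_iff.1 this

theorem IsChar.dg_pos {H : Subgroup G} {φ : G → ℂ} (h : IsChar H φ) (h0 : φ ≠ 0) : 0 < dg φ :=
  Nat.pos_of_ne_zero fun h' => h0 (h.eq_zero_of_dg h')

theorem IsChar.ip_nat {H : Subgroup G} {φ ψ : G → ℂ} (h : IsChar H φ) (h' : IsChar H ψ) :
    ∃ n : ℕ, ip H φ ψ = n := by
  have := Fintype.ofFinite H
  rw [ip_eq_classInner]; exact h.2.exists_nat_classInner h'.2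

/-! ### Irreducible characters -/

theorem mem_Irr {H : Subgroup G} {φ : G → ℂ} :
    φ ∈ Irr H ↔ (∀ x, x ∉ H → φ x = 0) ∧ IsIrrCharacter H (fun h : H => φ h) := by
  unfold Irr; exact Set.Finite.mem_toFinset _

theorem extendByZero_mem_Irr {H : Subgroup G} {θ : H → ℂ} (h : IsIrrCharacter H θ) :
    extendByZero H θ ∈ Irr H :=
  mem_Irr.2 ⟨fun _ hx => H6.extendByZero_of_not_mem H θ hx, by
    simpa only [H6.extendByZero_coe] using h⟩

theorem mem_Irr_top_iff {φ : G → ℂ} : φ ∈ Irr ⊤ ↔ IsIrrCharacter G φ := by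
  rw [mem_Irr]
  exact ⟨fun h => h.2.comp_surjective (Subgroup.topEquiv (G := G)).symm.toMonoidHom
      (Subgroup.topEquiv (G := G)).symm.surjective,
    fun h => ⟨fun _ hx => (hx (mem_top _)).elim,
      h.comp_surjective (Subgroup.topEquiv (G := G)).toMonoidHom
        (Subgroup.topEquiv (G := G)).surjective⟩⟩

theorem irr_isChar {H : Subgroup G} {χ : G → ℂ} (h : χ ∈ Irr H) : IsChar H χ :=
  ⟨(mem_Irr.1 h).1, (mem_Irr.1 h).2.isCharacter⟩

theorem irr_mem_CF {H : Subgroup G} {χ : G → ℂ} (h : χ ∈ Irr H) : χ ∈ CF H := (irr_isChar h).mem_CF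

theorem irr_one_eq {H : Subgroup G} {χ : G → ℂ} (h : χ ∈ Irr H) : χ 1 = dg χ :=
  (irr_isChar h).one_eq

theorem irr_one_ne_zero {H : Subgroup G} {χ : G → ℂ} (h : χ ∈ Irr H) : χ 1 ≠ 0 :=
  (mem_Irr.1 h).2.one_ne_zero

theorem irr_ne_zero {H : Subgroup G} {χ : G → ℂ} (h : χ ∈ Irr H) : χ ≠ 0 :=
  fun h' => irr_one_ne_zero h (by rw [h']; rfl)

theorem irr_dg_pos {H : Subgroup G} {χ : G → ℂ} (h : χ ∈ Irr H) : 0 < dg χ :=
  (irr_isChar h).dg_pos (irr_ne_zero h)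

theorem irr_dg_dvd_card {H : Subgroup G} {χ : G → ℂ} (h : χ ∈ Irr H) : dg χ ∣ Nat.card H :=
  (mem_Irr.1 h).2.degree_dvd_card (irr_one_eq h)

theorem ip_irr_self {H : Subgroup G} {χ : G → ℂ} (h : χ ∈ Irr H) : ip H χ χ = 1 := by
  have := Fintype.ofFinite H
  rw [ip_eq_classInner]; exact (mem_Irr.1 h).2.classInner_self

theorem nsq_irr {H : Subgroup G} {χ : G → ℂ} (h : χ ∈ Irr H) : nsq H χ = 1 :=
  nsq_eq_one_iff.2 (ip_irr_self h)

theorem ip_irr_of_ne {H : Subgroup G} {χ ψ : G → ℂ} (h : χ ∈ Irr H) (h' : ψ ∈ Irr H)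
    (hne : χ ≠ ψ) : ip H χ ψ = 0 := by
  have := Fintype.ofFinite H
  rw [ip_eq_classInner]
  refine (mem_Irr.1 h).2.classInner_of_ne (mem_Irr.1 h').2 fun e => hne ?_
  exact CF_ext (irr_mem_CF h) (irr_mem_CF h') fun x hx => congrFun e ⟨x, hx⟩

theorem on_Irr (H : Subgroup G) : ON H (Irr H) :=
  ⟨fun _ => ip_irr_self, fun _ h _ h' => ip_irr_of_ne h h'⟩

theorem ip_irr {H : Subgroup G} {χ ψ : G → ℂ} (h : χ ∈ Irr H) (h' : ψ ∈ Irr H) :
    ip H χ ψ = if χ = ψ then 1 else 0 := (on_Irr H).ip_eq h h'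

theorem irr_eq_of_ip_ne_zero {H : Subgroup G} {χ ψ : G → ℂ} (h : χ ∈ Irr H) (h' : ψ ∈ Irr H)
    (hne : ip H χ ψ ≠ 0) : χ = ψ := by
  by_contra e; exact hne (ip_irr_of_ne h h' e)

theorem eq_zero_of_ip_irr {H : Subgroup G} {φ : G → ℂ} (hφ : φ ∈ CF H)
    (h : ∀ χ ∈ Irr H, ip H φ χ = 0) : φ = 0 := by
  have := Fintype.ofFinite H
  have h1 := H6.eq_zero_of_classInner_irr (isClassFunction_of_mem_CF hφ) fun χ hχ => by
    have := h _ (extendByZero_mem_Irr hχ)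
    rw [ip_eq_classInner] at this
    simpa only [H6.extendByZero_coe] using this
  exact CF_ext hφ (zero_mem _) fun x hx => congrFun h1 ⟨x, hx⟩

theorem CF_ext_irr {H : Subgroup G} {φ ψ : G → ℂ} (hφ : φ ∈ CF H) (hψ : ψ ∈ CF H)
    (h : ∀ χ ∈ Irr H, ip H φ χ = ip H ψ χ) : φ = ψ :=
  sub_eq_zero.1 (eq_zero_of_ip_irr (sub_mem hφ hψ) fun χ hχ => by rw [ip_sub_left, h χ hχ, sub_self])

theorem eq_sum_irr {H : Subgroup G} {φ : G → ℂ} (hφ : φ ∈ CF H) :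
    φ = ∑ χ ∈ Irr H, ip H φ χ • χ :=
  CF_ext_irr hφ (Submodule.sum_mem _ fun _ hχ => Submodule.smul_mem _ _ (irr_mem_CF hχ))
    fun _ hχ => ((on_Irr H).ip_sum_smul _ hχ).symm

theorem apply_eq_sum_irr {H : Subgroup G} {φ : G → ℂ} (hφ : φ ∈ CF H) (x : G) :
    φ x = ∑ χ ∈ Irr H, ip H φ χ * χ x := by
  conv_lhs => rw [eq_sum_irr hφ]
  simp [Finset.sum_apply]

theorem ip_eq_sum_irr {H : Subgroup G} {φ ψ : G → ℂ} (hφ : φ ∈ CF H) :
    ip H φ ψ = ∑ χ ∈ Irr H, ip H φ χ * conj (ip H ψ χ) := by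
  conv_lhs => rw [eq_sum_irr hφ]
  simp only [ip_sum_left, ip_smul_left, conj_ip]

theorem nsq_eq_sum_irr {H : Subgroup G} {φ : G → ℂ} (hφ : φ ∈ CF H) :
    nsq H φ = ∑ χ ∈ Irr H, ‖ip H φ χ‖ ^ 2 := by
  conv_lhs => rw [eq_sum_irr hφ]
  exact (on_Irr H).nsq_sum_smul _

theorem isChar_of_ip_nat {H : Subgroup G} {φ : G → ℂ} (hφ : φ ∈ CF H)
    (h : ∀ χ ∈ Irr H, ∃ n : ℕ, ip H φ χ = n) : IsChar H φ := by
  rw [eq_sum_irr hφ]
  refine IsChar.sum fun χ hχ => ?_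
  obtain ⟨n, hn⟩ := h χ hχ
  rw [hn]; exact (irr_isChar hχ).nat_smul n

theorem IsChar.mem_Irr_iff {H : Subgroup G} {φ : G → ℂ} (h : IsChar H φ) :
    φ ∈ Irr H ↔ nsq H φ = 1 := by
  have := Fintype.ofFinite H
  rw [mem_Irr, h.2.isIrrCharacter_iff, nsq_eq_one_iff, ip_eq_classInner]
  exact and_iff_right h.1

theorem mem_constt {H : Subgroup G} {φ χ : G → ℂ} : χ ∈ constt H φ ↔ χ ∈ Irr H ∧ ip H φ χ ≠ 0 := by
  unfold constt; exact Finset.mem_filter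

theorem eq_sum_constt {H : Subgroup G} {φ : G → ℂ} (hφ : φ ∈ CF H) :
    φ = ∑ χ ∈ constt H φ, ip H φ χ • χ := by
  conv_lhs => rw [eq_sum_irr hφ]
  symm
  refine Finset.sum_subset (fun χ hχ => (mem_constt.1 hχ).1) fun χ hχ hχ' => ?_
  have : ip H φ χ = 0 := by by_contra h; exact hχ' (mem_constt.2 ⟨hχ, h⟩)
  rw [this, zero_smul]

theorem constt_nonempty {H : Subgroup G} {φ : G → ℂ} (hφ : φ ∈ CF H) (h0 : φ ≠ 0) :
    (constt H φ).Nonempty := by
  by_contra h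
  rw [Finset.not_nonempty_iff_eq_empty] at h
  exact h0 (by rw [eq_sum_constt hφ, h, Finset.sum_empty])

/-- A constituent of a character can be split off. -/
theorem IsChar.sub_constt {H : Subgroup G} {φ χ : G → ℂ} (h : IsChar H φ) (hχ : χ ∈ constt H φ) :
    IsChar H (φ - χ) := by
  obtain ⟨hχ, h0⟩ := mem_constt.1 hχ
  refine isChar_of_ip_nat (sub_mem h.mem_CF (irr_mem_CF hχ)) fun ψ hψ => ?_
  obtain ⟨n, hn⟩ := h.ip_nat (irr_isChar hψ)
  rw [ip_sub_left, ip_irr hχ hψ, hn]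
  split_ifs with e
  · subst e
    have : n ≠ 0 := by rintro rfl; exact h0 (by simpa using hn)
    obtain ⟨m, rfl⟩ := Nat.exists_eq_succ_of_ne_zero this
    exact ⟨m, by simp⟩
  · exact ⟨n, by simp⟩

theorem IsChar.dg_constt_le {H : Subgroup G} {φ χ : G → ℂ} (h : IsChar H φ) (hχ : χ ∈ constt H φ) :
    dg χ ≤ dg φ := by
  have := (irr_isChar (mem_constt.1 hχ).1).dg_add (h.sub_constt hχ)
  rw [add_sub_cancel] at this
  omega

theorem IsChar.eq_of_constt_of_dg {H : Subgroup G} {φ χ : G → ℂ} (h : IsChar H φ)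
    (hχ : χ ∈ constt H φ) (hd : dg φ ≤ dg χ) : φ = χ := by
  have := (irr_isChar (mem_constt.1 hχ).1).dg_add (h.sub_constt hχ)
  rw [add_sub_cancel] at this
  exact sub_eq_zero.1 ((h.sub_constt hχ).eq_zero_of_dg (by omega))

theorem ip_cfAut_char {H : Subgroup G} (u : ℂ →+* ℂ) (φ : G → ℂ) {ψ : G → ℂ} (h : IsChar H ψ) :
    ip H (cfAut u φ) (cfAut u ψ) = u (ip H φ ψ) := by
  simp only [ip_def, cfAut_apply, map_mul, map_sum, map_inv₀, map_natCast]
  congr 1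
  refine sum_fs_congr fun x _ => ?_
  rw [← h.apply_inv, ← cfAut_apply u ψ x, ← (h.cfAut u).apply_inv, cfAut_apply]

theorem cfAut_mem_Irr {H : Subgroup G} {χ : G → ℂ} (u : ℂ →+* ℂ) (h : χ ∈ Irr H) :
    cfAut u χ ∈ Irr H := by
  rw [((irr_isChar h).cfAut u).mem_Irr_iff, nsq_eq_one_iff, ip_cfAut_char u χ (irr_isChar h),
    ip_irr_self h, map_one]

theorem star_mem_Irr {H : Subgroup G} {χ : G → ℂ} (h : χ ∈ Irr H) : star χ ∈ Irr H :=
  cfAut_mem_Irr (starRingEnd ℂ) h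

theorem image_cfAut_Irr (u : ℂ →+* ℂ) (H : Subgroup G) : (Irr H).image (cfAut u) = Irr H :=
  Finset.eq_of_subset_of_card_le (fun χ hχ => by
    obtain ⟨ψ, hψ, rfl⟩ := Finset.mem_image.1 hχ
    exact cfAut_mem_Irr u hψ) (Finset.card_image_of_injective _ (cfAut_injective u)).ge

theorem sum_Irr_eq {M : Type*} [AddCommMonoid M] (H : Subgroup G) [Fintype (IrrCharacter H)]
    (f : (G → ℂ) → M) : ∑ χ ∈ Irr H, f χ = ∑ χ : IrrCharacter H, f (extendByZero H χ.1) := by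
  symm
  refine Finset.sum_bij (fun χ _ => extendByZero H χ.1) (fun χ _ => extendByZero_mem_Irr χ.2)
    (fun χ _ ψ _ e => Subtype.ext (funext fun x => ?_)) (fun φ hφ => ?_) fun _ _ => rfl
  · simpa only [H6.extendByZero_coe] using congrFun e x
  · refine ⟨⟨_, (mem_Irr.1 hφ).2⟩, Finset.mem_univ _, ?_⟩
    funext x
    by_cases hx : x ∈ H
    · exact H6.extendByZero_of_mem H _ hx
    · rw [(mem_Irr.1 hφ).1 x hx]; exact H6.extendByZero_of_not_mem H _ hx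

theorem card_Irr (H : Subgroup G) : (Irr H).card = Nat.card (ConjClasses H) := by
  have := H6.fintype_irrCharacter H
  rw [← H6.card_irr_eq_card_conjClasses, Finset.card_eq_sum_ones, sum_Irr_eq]
  simp

open Classical in
/-- The regular character. -/
theorem sum_irr_one_mul (H : Subgroup G) (g : G) :
    ∑ χ ∈ Irr H, χ 1 * χ g = if g = 1 then (Nat.card H : ℂ) else 0 := by
  have := H6.fintype_irrCharacter H
  have := Fintype.ofFinite H
  by_cases hg : g ∈ H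
  · rw [sum_Irr_eq]
    have h := H6.sum_irr_degree_mul (G := H) ⟨g, hg⟩
    simp only [Subtype.ext_iff, OneMemClass.coe_one] at h
    rw [← h]
    refine Finset.sum_congr (by congr; exact Subsingleton.elim _ _) fun χ _ => ?_
    rw [H6.extendByZero_of_mem H _ hg, H6.extendByZero_of_mem H _ H.one_mem]; rfl
  · rw [if_neg (by rintro rfl; exact hg H.one_mem)]
    exact Finset.sum_eq_zero fun χ hχ => by rw [(irr_isChar hχ).off hg, mul_zero]

theorem sum_irr_dg_sq (H : Subgroup G) : ∑ χ ∈ Irr H, dg χ ^ 2 = Nat.card H := by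
  have := sum_irr_one_mul H 1
  rw [if_pos rfl, Finset.sum_congr rfl fun χ hχ => by rw [irr_one_eq hχ]] at this
  exact_mod_cast (by simpa [sq] using this : ∑ χ ∈ Irr H, ((dg χ : ℂ) ^ 2) = Nat.card H)

open Classical in
/-- Second orthogonality relation. -/
theorem sum_irr_mul_conj {H : Subgroup G} {g h : G} (hg : g ∈ H) (hh : h ∈ H) :
    ∑ χ ∈ Irr H, χ g * conj (χ h) =
      if ∃ x ∈ H, x * h * x⁻¹ = g then (Nat.card (H ⊓ 𝐂[h] : Subgroup G) : ℂ) else 0 := by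
  have := H6.fintype_irrCharacter H
  have := Fintype.ofFinite H
  rw [sum_Irr_eq]
  have h1 := H6.sum_irr_mul_conj (G := H) ⟨g, hg⟩ ⟨h, hh⟩
  have h2 : IsConj (⟨h, hh⟩ : H) ⟨g, hg⟩ ↔ ∃ x ∈ H, x * h * x⁻¹ = g := by
    rw [isConj_iff]
    exact ⟨fun ⟨x, hx⟩ => ⟨x, x.2, congrArg Subtype.val hx⟩,
      fun ⟨x, hx, e⟩ => ⟨⟨x, hx⟩, Subtype.ext e⟩⟩
  have h3 : Nat.card (centralizer ({⟨h, hh⟩} : Set H)) = Nat.card (H ⊓ 𝐂[h] : Subgroup G) := by
    rw [← Subgroup.card_map_of_injective H.subtype_injective]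
    congr 2
    ext x
    simp only [mem_map, mem_centralizer_singleton_iff, mem_inf, coe_subtype]
    exact ⟨fun ⟨y, hy, e⟩ => e ▸ ⟨y.2, congrArg Subtype.val hy⟩,
      fun ⟨hx, e⟩ => ⟨⟨x, hx⟩, Subtype.ext e, rfl⟩⟩
  simp only [h2, h3] at h1
  rw [← h1]
  refine Finset.sum_congr (by congr; exact Subsingleton.elim _ _) fun χ _ => ?_
  rw [H6.extendByZero_of_mem H _ hg, H6.extendByZero_of_mem H _ hh]

theorem sum_irr_norm_sq {H : Subgroup G} {g : G} (hg : g ∈ H) :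
    ∑ χ ∈ Irr H, ‖χ g‖ ^ 2 = Nat.card (H ⊓ 𝐂[g] : Subgroup G) := by
  have := sum_irr_mul_conj hg hg
  rw [if_pos ⟨1, H.one_mem, by simp⟩] at this
  simp only [Complex.mul_conj, Complex.normSq_eq_norm_sq] at this
  exact_mod_cast this

/-! ### Linear characters -/

omit [Finite G] in
theorem IsLin.mul {H : Subgroup G} {φ ψ : G → ℂ} (h : IsLin H φ) (h' : IsLin H ψ) :
    IsLin H (φ * ψ) :=
  ⟨fun x hx => by simp [h.1 x hx], by simp [h.2.1, h'.2.1], fun x hx y hy => by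
    simp only [Pi.mul_apply, h.2.2 x hx y hy, h'.2.2 x hx y hy]; ring⟩

omit [Finite G] in
theorem isLin_cf1 (H : Subgroup G) : IsLin H (cf1 H) :=
  ⟨fun _ hx => cf1_of_notMem hx, cf1_one H, fun x hx y hy => by
    rw [cf1_of_mem hx, cf1_of_mem hy, cf1_of_mem (H.mul_mem hx hy), one_mul]⟩

omit [Finite G] in
theorem IsLin.cfAut {H : Subgroup G} {φ : G → ℂ} (h : IsLin H φ) (u : ℂ →+* ℂ) :
    IsLin H (cfAut u φ) :=
  ⟨fun x hx => by simp [h.1 x hx], by simp [h.2.1], fun x hx y hy => by simp [h.2.2 x hx y hy]⟩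

omit [Finite G] in
theorem IsLin.star {H : Subgroup G} {φ : G → ℂ} (h : IsLin H φ) : IsLin H (star φ) :=
  h.cfAut (starRingEnd ℂ)

omit [Finite G] in
theorem IsLin.res {K H : Subgroup G} (hK : K ≤ H) {φ : G → ℂ} (h : IsLin H φ) :
    IsLin K (res K φ) :=
  ⟨fun _ hx => res_of_notMem φ hx, by simp [h.2.1], fun x hx y hy => by
    rw [res_of_mem _ hx, res_of_mem _ hy, res_of_mem _ (K.mul_mem hx hy), h.2.2 x (hK hx) y (hK hy)]⟩

omit [Finite G] in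
theorem IsLin.mul_inv {H : Subgroup G} {φ : G → ℂ} (h : IsLin H φ) {x : G} (hx : x ∈ H) :
    φ x * φ x⁻¹ = 1 := by rw [← h.2.2 x hx _ (H.inv_mem hx), mul_inv_cancel, h.2.1]

omit [Finite G] in
theorem IsLin.ne_zero {H : Subgroup G} {φ : G → ℂ} (h : IsLin H φ) {x : G} (hx : x ∈ H) :
    φ x ≠ 0 := left_ne_zero_of_mul_eq_one (h.mul_inv hx)

omit [Finite G] in
theorem IsLin.pow_apply {H : Subgroup G} {φ : G → ℂ} (h : IsLin H φ) {x : G} (hx : x ∈ H) (n : ℕ) :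
    φ (x ^ n) = φ x ^ n := by
  induction n with
  | zero => simp [h.2.1]
  | succ n ih => rw [pow_succ, h.2.2 _ (H.pow_mem hx n) x hx, ih, pow_succ]

omit [Finite G] in
theorem IsLin.res_pow {H : Subgroup G} {φ : G → ℂ} (h : IsLin H φ) (n : ℕ) :
    IsLin H (FT.res H (φ ^ n)) :=
  ⟨fun _ hx => res_of_notMem _ hx, by simp [h.2.1], fun x hx y hy => by
    rw [res_of_mem _ hx, res_of_mem _ hy, res_of_mem _ (H.mul_mem hx hy)]
    simp only [Pi.pow_apply, h.2.2 x hx y hy, mul_pow]⟩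

/-- The homomorphism attached to a linear character. -/
noncomputable def IsLin.toHom {G : Type u} [Group G] {H : Subgroup G} {φ : G → ℂ}
    (h : IsLin H φ) : H →* ℂˣ :=
  MonoidHom.toHomUnits
    { toFun := fun x => φ x
      map_one' := h.2.1
      map_mul' := fun x y => h.2.2 x x.2 y y.2 }

omit [Finite G] in
@[simp] theorem IsLin.coe_toHom {H : Subgroup G} {φ : G → ℂ} (h : IsLin H φ) (x : H) :
    (h.toHom x : ℂ) = φ x := rfl

omit [Finite G] in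
theorem isLin_extendByZero {H : Subgroup G} (f : H →* ℂˣ) :
    IsLin H (extendByZero H fun x => (f x : ℂ)) :=
  ⟨fun _ hx => H6.extendByZero_of_not_mem H _ hx, by
    rw [H6.extendByZero_of_mem H _ H.one_mem]; exact congrArg Units.val f.map_one,
    fun x hx y hy => by
      rw [H6.extendByZero_of_mem H _ hx, H6.extendByZero_of_mem H _ hy,
        H6.extendByZero_of_mem H _ (H.mul_mem hx hy)]
      exact congrArg Units.val (f.map_mul ⟨x, hx⟩ ⟨y, hy⟩)⟩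

theorem IsLin.mem_Irr {H : Subgroup G} {φ : G → ℂ} (h : IsLin H φ) : φ ∈ Irr H :=
  FT.mem_Irr.2 ⟨h.1, H6.isIrrCharacter_of_hom h.toHom⟩

theorem IsLin.isChar {H : Subgroup G} {φ : G → ℂ} (h : IsLin H φ) : IsChar H φ :=
  irr_isChar h.mem_Irr

theorem IsLin.mem_CF {H : Subgroup G} {φ : G → ℂ} (h : IsLin H φ) : φ ∈ CF H := h.isChar.mem_CF

omit [Finite G] in
theorem IsLin.dg {H : Subgroup G} {φ : G → ℂ} (h : IsLin H φ) : dg φ = 1 :=
  dg_eq_of (by simp [h.2.1])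

theorem cf1_mem_Irr (H : Subgroup G) : cf1 H ∈ Irr H := (isLin_cf1 H).mem_Irr

theorem isChar_cf1 (H : Subgroup G) : IsChar H (cf1 H) := (isLin_cf1 H).isChar

theorem IsLin.mul_conj {H : Subgroup G} {φ : G → ℂ} (h : IsLin H φ) {x : G} (hx : x ∈ H) :
    φ x * conj (φ x) = 1 := by rw [← h.isChar.apply_inv, h.mul_inv hx]

theorem IsLin.norm_eq {H : Subgroup G} {φ : G → ℂ} (h : IsLin H φ) {x : G} (hx : x ∈ H) :
    ‖φ x‖ = 1 := by
  have := h.mul_conj hx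
  rw [Complex.mul_conj, Complex.normSq_eq_norm_sq] at this
  have h2 : ‖φ x‖ ^ 2 = 1 := by exact_mod_cast this
  exact (pow_eq_one_iff_of_nonneg (norm_nonneg _) two_ne_zero).1 h2

theorem IsLin.mul_star {H : Subgroup G} {φ : G → ℂ} (h : IsLin H φ) : φ * Star.star φ = cf1 H :=
  CF_ext (mul_mem_CF h.mem_CF h.star.mem_CF) (cf1_mem_CF H) fun x hx => by
    rw [cf1_of_mem hx]; exact h.mul_conj hx

theorem IsLin.star_mul {H : Subgroup G} {φ : G → ℂ} (h : IsLin H φ) : Star.star φ * φ = cf1 H := by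
  rw [mul_comm, h.mul_star]

theorem IsLin.ip_mul_mul {H : Subgroup G} {l : G → ℂ} (h : IsLin H l) (φ ψ : G → ℂ) :
    ip H (l * φ) (l * ψ) = ip H φ ψ := by
  rw [mul_comm l φ, ip_mul_left, ← mul_assoc, h.star_mul, cf1_mul_eq_res, ip_res_right]

theorem IsLin.mul_mem_Irr {H : Subgroup G} {l χ : G → ℂ} (h : IsLin H l) (hχ : χ ∈ Irr H) :
    l * χ ∈ Irr H := by
  rw [(h.isChar.mul (irr_isChar hχ)).mem_Irr_iff, nsq_eq_one_iff, h.ip_mul_mul, ip_irr_self hχ]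

theorem IsLin.mul_left_cancel {H : Subgroup G} {l φ ψ : G → ℂ} (h : IsLin H l) (hφ : φ ∈ CF H)
    (hψ : ψ ∈ CF H) (e : l * φ = l * ψ) : φ = ψ :=
  CF_ext hφ hψ fun x hx => mul_left_cancel₀ (h.ne_zero hx) (congrFun e x)

theorem IsLin.pow_card {H : Subgroup G} {φ : G → ℂ} (h : IsLin H φ) {x : G} (hx : x ∈ H) :
    φ x ^ orderOf x = 1 := by rw [← h.pow_apply hx, pow_orderOf_eq_one, h.2.1]

theorem IsChar.isLin {H : Subgroup G} {φ : G → ℂ} (h : IsChar H φ) (h1 : φ 1 = 1) : IsLin H φ := by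
  refine ⟨h.1, h1, fun x hx y hy => ?_⟩
  obtain ⟨n, ρ, hρ⟩ := h.2
  have hn : n = 1 := by
    have := congrFun hρ 1
    rw [Representation.char_one] at this
    have h2 : ((Module.finrank ℂ (Fin n → ℂ) : ℕ) : ℂ) = 1 := this.trans h1
    simpa using h2
  subst hn
  have h3 : ∀ T : Module.End ℂ (Fin 1 → ℂ),
      LinearMap.trace ℂ _ T = LinearMap.toMatrix' T 0 0 := fun T => by
    rw [LinearMap.trace_eq_matrix_trace ℂ (Pi.basisFun ℂ (Fin 1)), LinearMap.toMatrix_eq_toMatrix',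
      Matrix.trace_fin_one]
  have h4 : ∀ z : H, φ z = LinearMap.toMatrix' (ρ z) 0 0 := fun z => by
    rw [← h3]; exact (congrFun hρ z).symm
  have := h4 (⟨x, hx⟩ * ⟨y, hy⟩)
  rw [map_mul, LinearMap.toMatrix'_mul, Matrix.mul_apply, Fin.sum_univ_one, ← h4, ← h4] at this
  exact this

theorem IsChar.isLin_of_dg {H : Subgroup G} {φ : G → ℂ} (h : IsChar H φ) (h1 : dg φ = 1) :
    IsLin H φ := h.isLin (by rw [h.one_eq, h1, Nat.cast_one])

theorem card_Irr_of_comm {H : Subgroup G} (hH : IsMulCommutative H) :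
    (Irr H).card = Nat.card H := by
  rw [card_Irr]
  refine (Nat.card_congr (Equiv.ofBijective ConjClasses.mk ⟨fun a b e => ?_,
    ConjClasses.mk_surjective⟩)).symm
  obtain ⟨c, hc⟩ := isConj_iff.1 (ConjClasses.mk_eq_mk_iff_isConj.1 e)
  rw [← hc, hH.is_comm.comm c a, mul_inv_cancel_right]

theorem isLin_of_comm {H : Subgroup G} (hH : IsMulCommutative H) {χ : G → ℂ} (h : χ ∈ Irr H) :
    IsLin H χ := by
  refine (irr_isChar h).isLin_of_dg ?_
  have h1 := sum_irr_dg_sq H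
  rw [← card_Irr_of_comm hH, Finset.card_eq_sum_ones] at h1
  have h2 := (Finset.sum_eq_sum_iff_of_le fun ψ hψ =>
    Nat.one_le_pow 2 _ (irr_dg_pos hψ)).1 h1.symm χ h
  exact (Nat.pow_eq_one.1 h2.symm).resolve_right two_ne_zero

/-! ### Virtual characters -/

theorem irr_mem_VChar {H : Subgroup G} {χ : G → ℂ} (h : χ ∈ Irr H) : χ ∈ VChar H := mem_Zs_of_mem h

theorem vchar_mem_CF {H : Subgroup G} {φ : G → ℂ} (h : φ ∈ VChar H) : φ ∈ CF H :=
  Zs_le_of_subset (fun _ => irr_mem_CF) h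

theorem mem_VChar_iff {H : Subgroup G} {φ : G → ℂ} :
    φ ∈ VChar H ↔ φ ∈ CF H ∧ ∀ χ ∈ Irr H, ∃ n : ℤ, ip H φ χ = n := by
  refine ⟨fun h => ⟨vchar_mem_CF h, fun χ hχ => ?_⟩, fun ⟨h1, h2⟩ => ?_⟩
  · obtain ⟨c, rfl⟩ := mem_Zs_iff'.1 h
    exact ⟨c χ, (on_Irr H).ip_sum_smul (fun χ => (c χ : ℂ)) hχ⟩
  · rw [eq_sum_irr h1]
    refine Submodule.sum_mem _ fun χ hχ => ?_
    obtain ⟨n, hn⟩ := h2 χ hχ
    rw [hn]; exact intCast_smul_mem_Zs (irr_mem_VChar hχ) n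

theorem IsChar.mem_VChar {H : Subgroup G} {φ : G → ℂ} (h : IsChar H φ) : φ ∈ VChar H :=
  mem_VChar_iff.2 ⟨h.mem_CF, fun χ hχ => by
    obtain ⟨n, hn⟩ := h.ip_nat (irr_isChar hχ); exact ⟨n, by simpa using hn⟩⟩

theorem cf1_mem_VChar (H : Subgroup G) : cf1 H ∈ VChar H := irr_mem_VChar (cf1_mem_Irr H)

theorem Zs_le_VChar {H : Subgroup G} {S : Finset (G → ℂ)} (h : ∀ χ ∈ S, χ ∈ VChar H) :
    Zs S ≤ VChar H := Submodule.span_le.2 h

theorem vchar_induction {H : Subgroup G} {P : (G → ℂ) → Prop} (h0 : P 0)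
    (hirr : ∀ χ ∈ Irr H, P χ) (hsub : ∀ φ ψ, P φ → P ψ → P (φ - ψ)) {φ : G → ℂ}
    (h : φ ∈ VChar H) : P φ := by
  have hneg : ∀ φ, P φ → P (-φ) := fun φ hφ => by simpa using hsub 0 φ h0 hφ
  have hadd : ∀ φ ψ, P φ → P ψ → P (φ + ψ) := fun φ ψ hφ hψ => by
    simpa using hsub φ (-ψ) hφ (hneg ψ hψ)
  refine Submodule.span_induction (p := fun φ _ => P φ) hirr h0 (fun φ ψ _ _ => hadd φ ψ) ?_ h
  intro n φ _ hφ
  induction n using Int.induction_on with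
  | zero => simpa using h0
  | succ n ih => rw [add_smul, one_smul]; exact hadd _ _ ih hφ
  | pred n ih => rw [sub_smul, one_smul]; exact hsub _ _ ih hφ

theorem vchar_eq_sub {H : Subgroup G} {φ : G → ℂ} (h : φ ∈ VChar H) :
    ∃ χ ψ, IsChar H χ ∧ IsChar H ψ ∧ φ = χ - ψ := by
  refine vchar_induction (P := fun φ => ∃ χ ψ, IsChar H χ ∧ IsChar H ψ ∧ φ = χ - ψ)
    ⟨0, 0, isChar_zero H, isChar_zero H, by simp⟩
    (fun χ hχ => ⟨χ, 0, irr_isChar hχ, isChar_zero H, by simp⟩) ?_ h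
  rintro _ _ ⟨a, b, ha, hb, rfl⟩ ⟨c, d, hc, hd, rfl⟩
  exact ⟨a + d, b + c, ha.add hd, hb.add hc, by abel⟩

theorem vchar_ip_int {H : Subgroup G} {φ ψ : G → ℂ} (h : φ ∈ VChar H) (h' : ψ ∈ VChar H) :
    ∃ n : ℤ, ip H φ ψ = n := by
  refine vchar_induction (P := fun ψ => ∃ n : ℤ, ip H φ ψ = n) ⟨0, by simp⟩
    (mem_VChar_iff.1 h).2 ?_ h'
  rintro a b ⟨m, hm⟩ ⟨n, hn⟩
  exact ⟨m - n, by simp [hm, hn]⟩

theorem vchar_ip_comm {H : Subgroup G} {φ ψ : G → ℂ} (h : φ ∈ VChar H) (h' : ψ ∈ VChar H) :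
    ip H φ ψ = ip H ψ φ := by
  obtain ⟨n, hn⟩ := vchar_ip_int h h'
  rw [hn, ip_comm_of_int hn]

theorem vchar_nsq_nat {H : Subgroup G} {φ : G → ℂ} (h : φ ∈ VChar H) : ∃ n : ℕ, nsq H φ = n := by
  obtain ⟨n, hn⟩ := vchar_ip_int h h
  have h1 : nsq H φ = n := nsq_eq_of_ip (by simpa using hn)
  have h2 : 0 ≤ n := by have := nsq_nonneg H φ; rw [h1] at this; exact_mod_cast this
  obtain ⟨m, rfl⟩ := Int.eq_ofNat_of_zero_le h2
  exact ⟨m, by simpa using h1⟩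

theorem vchar_one_le_nsq {H : Subgroup G} {φ : G → ℂ} (h : φ ∈ VChar H) (h0 : φ ≠ 0) :
    1 ≤ nsq H φ := by
  obtain ⟨n, hn⟩ := vchar_nsq_nat h
  have := nsq_pos (vchar_mem_CF h) h0
  rw [hn] at this ⊢
  exact_mod_cast this

theorem vchar_one_int {H : Subgroup G} {φ : G → ℂ} (h : φ ∈ VChar H) : ∃ n : ℤ, φ 1 = n := by
  obtain ⟨a, b, ha, hb, rfl⟩ := vchar_eq_sub h
  exact ⟨dg a - dg b, by simp [ha.one_eq, hb.one_eq]⟩

theorem vchar_apply_inv {H : Subgroup G} {φ : G → ℂ} (h : φ ∈ VChar H) (x : G) :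
    φ x⁻¹ = conj (φ x) := by
  obtain ⟨a, b, ha, hb, rfl⟩ := vchar_eq_sub h
  simp [ha.apply_inv, hb.apply_inv]

theorem vchar_isIntegral {H : Subgroup G} {φ : G → ℂ} (h : φ ∈ VChar H) (x : G) :
    IsIntegral ℤ (φ x) := by
  obtain ⟨a, b, ha, hb, rfl⟩ := vchar_eq_sub h
  exact (ha.isIntegral x).sub (hb.isIntegral x)

theorem vchar_mul {H : Subgroup G} {φ ψ : G → ℂ} (h : φ ∈ VChar H) (h' : ψ ∈ VChar H) :
    φ * ψ ∈ VChar H := by
  obtain ⟨a, b, ha, hb, rfl⟩ := vchar_eq_sub h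
  obtain ⟨c, d, hc, hd, rfl⟩ := vchar_eq_sub h'
  rw [sub_mul, mul_sub, mul_sub]
  exact sub_mem (sub_mem (ha.mul hc).mem_VChar (ha.mul hd).mem_VChar)
    (sub_mem (hb.mul hc).mem_VChar (hb.mul hd).mem_VChar)

theorem vchar_cfAut {H : Subgroup G} {φ : G → ℂ} (u : ℂ →+* ℂ) (h : φ ∈ VChar H) :
    cfAut u φ ∈ VChar H := cfAut_mem_Zs (fun _ => cfAut_mem_Irr u) h

theorem vchar_star {H : Subgroup G} {φ : G → ℂ} (h : φ ∈ VChar H) : star φ ∈ VChar H :=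
  vchar_cfAut (starRingEnd ℂ) h

theorem vchar_res {K H : Subgroup G} (hK : K ≤ H) {φ : G → ℂ} (h : φ ∈ VChar H) :
    res K φ ∈ VChar K :=
  map_mem_of_mem_Zs (fun _ hχ => ((irr_isChar hχ).res hK).mem_VChar) h

theorem vchar_int_smul {H : Subgroup G} {φ : G → ℂ} (h : φ ∈ VChar H) (n : ℤ) :
    (n : ℂ) • φ ∈ VChar H := intCast_smul_mem_Zs h n

theorem vchar_nat_smul {H : Subgroup G} {φ : G → ℂ} (h : φ ∈ VChar H) (n : ℕ) :
    (n : ℂ) • φ ∈ VChar H := natCast_smul_mem_Zs h n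

theorem ip_cfAut_vchar {H : Subgroup G} (u : ℂ →+* ℂ) (φ : G → ℂ) {ψ : G → ℂ} (h : ψ ∈ VChar H) :
    ip H (cfAut u φ) (cfAut u ψ) = u (ip H φ ψ) := by
  obtain ⟨a, b, ha, hb, rfl⟩ := vchar_eq_sub h
  rw [cfAut_sub, ip_sub_right, ip_sub_right, map_sub, ip_cfAut_char u φ ha, ip_cfAut_char u φ hb]

theorem ip_cfAut_vchar' {H : Subgroup G} (u : ℂ →+* ℂ) {φ ψ : G → ℂ} (hφ : φ ∈ VChar H)
    (h : ψ ∈ VChar H) : ip H (cfAut u φ) (cfAut u ψ) = ip H φ ψ := by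
  obtain ⟨n, hn⟩ := vchar_ip_int hφ h
  rw [ip_cfAut_vchar u φ h, hn, map_intCast]

/-- The number of constituents of a virtual character is at most its squared norm. -/
theorem vchar_card_constt_le {H : Subgroup G} {φ : G → ℂ} (h : φ ∈ VChar H) :
    ((constt H φ).card : ℝ) ≤ nsq H φ := by
  refine le_trans ?_ (((on_Irr H).mono fun χ hχ => (mem_constt.1 hχ).1).bessel (E := constt H φ) φ)
  rw [Finset.card_eq_sum_ones, Nat.cast_sum]
  refine Finset.sum_le_sum fun χ hχ => ?_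
  obtain ⟨hχ, h0⟩ := mem_constt.1 hχ
  obtain ⟨n, hn⟩ := (mem_VChar_iff.1 h).2 χ hχ
  rw [hn] at h0 ⊢
  have h1 : n ≠ 0 := by exact_mod_cast h0
  rw [Complex.norm_intCast, sq_abs]
  have : (1 : ℤ) ≤ n ^ 2 := by have := sq_pos_of_ne_zero h1; omega
  exact_mod_cast this

/-- The integer projection of a virtual character on an orthonormal family. -/
theorem ON.exists_split {H : Subgroup G} {E : Finset (G → ℂ)} (h : ON H E)
    (hE : ∀ α ∈ E, α ∈ VChar H) {φ : G → ℂ} (hφ : φ ∈ VChar H) :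
    ∃ c : (G → ℂ) → ℤ, (∀ α ∈ E, ip H φ α = c α) ∧
      (∀ β ∈ E, ip H (φ - ∑ α ∈ E, (c α : ℂ) • α) β = 0) ∧
      FT.nsq H φ = ∑ α ∈ E, (c α : ℝ) ^ 2 + FT.nsq H (φ - ∑ α ∈ E, (c α : ℂ) • α) := by
  classical
  have : ∀ α, ∃ n : ℤ, α ∈ E → ip H φ α = n := fun α => by
    by_cases hα : α ∈ E
    · obtain ⟨n, hn⟩ := vchar_ip_int hφ (hE α hα); exact ⟨n, fun _ => hn⟩
    · exact ⟨0, fun h => (hα h).elim⟩
  choose c hc using this
  have e : ∑ α ∈ E, (c α : ℂ) • α = ∑ α ∈ E, ip H φ α • α :=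
    Finset.sum_congr rfl fun α hα => by rw [hc α hα]
  refine ⟨c, hc, fun β hβ => by rw [e]; exact h.ip_sub_proj φ hβ, ?_⟩
  rw [e, h.nsq_eq_proj φ]
  congr 1
  exact Finset.sum_congr rfl fun α hα => by rw [hc α hα, Complex.norm_intCast, sq_abs]

/-! ### Signed irreducible characters -/

theorem Dirr.neg {H : Subgroup G} {φ : G → ℂ} (h : Dirr H φ) : Dirr H (-φ) :=
  h.elim (fun h => Or.inr (by rwa [neg_neg])) Or.inl

theorem Dirr.mem_VChar {H : Subgroup G} {φ : G → ℂ} (h : Dirr H φ) : φ ∈ VChar H :=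
  h.elim irr_mem_VChar fun h => by simpa using neg_mem (irr_mem_VChar h)

theorem Dirr.mem_CF {H : Subgroup G} {φ : G → ℂ} (h : Dirr H φ) : φ ∈ CF H :=
  vchar_mem_CF h.mem_VChar

theorem Dirr.nsq {H : Subgroup G} {φ : G → ℂ} (h : Dirr H φ) : nsq H φ = 1 :=
  h.elim nsq_irr fun h => by rw [← nsq_neg, nsq_irr h]

theorem Dirr.ip_self {H : Subgroup G} {φ : G → ℂ} (h : Dirr H φ) : ip H φ φ = 1 :=
  nsq_eq_one_iff.1 h.nsq

theorem Dirr.cfAut {H : Subgroup G} {φ : G → ℂ} (h : Dirr H φ) (u : ℂ →+* ℂ) :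
    Dirr H (cfAut u φ) :=
  h.imp (cfAut_mem_Irr u) fun h => by rw [← cfAut_neg]; exact cfAut_mem_Irr u h

theorem Dirr.star {H : Subgroup G} {φ : G → ℂ} (h : Dirr H φ) : Dirr H (star φ) :=
  h.cfAut (starRingEnd ℂ)

theorem Dirr.one_ne_zero {H : Subgroup G} {φ : G → ℂ} (h : Dirr H φ) : φ 1 ≠ 0 :=
  h.elim irr_one_ne_zero fun h => by simpa using irr_one_ne_zero h

theorem sq_eq_one_iff_of_ne_zero_or' {n : ℤ} (h : n ^ 2 = 1) : n = 1 ∨ n = -1 :=
  sq_eq_sq_iff_eq_or_eq_neg.1 (by rw [h, one_pow])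

theorem dirr_of_nsq_one {H : Subgroup G} {φ : G → ℂ} (h : φ ∈ VChar H) (h1 : nsq H φ = 1) :
    Dirr H φ := by
  have h0 : φ ≠ 0 := by rintro rfl; simp at h1
  obtain ⟨χ, hχ⟩ := constt_nonempty (vchar_mem_CF h) h0
  have hc : (constt H φ).card ≤ 1 := by
    have := vchar_card_constt_le h; rw [h1] at this; exact_mod_cast this
  have he : constt H φ = {χ} := Finset.eq_singleton_iff_unique_mem.2
    ⟨hχ, fun ψ hψ => Finset.card_le_one.1 hc ψ hψ χ hχ⟩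
  have h2 := eq_sum_constt (vchar_mem_CF h)
  rw [he, Finset.sum_singleton] at h2
  obtain ⟨hχ, -⟩ := mem_constt.1 hχ
  obtain ⟨n, hn⟩ := (mem_VChar_iff.1 h).2 χ hχ
  rw [hn] at h2
  rw [h2, nsq_int_smul, nsq_irr hχ, mul_one] at h1
  have h3 : n ^ 2 = 1 := by exact_mod_cast h1
  rcases sq_eq_one_iff_of_ne_zero_or' h3 with rfl | rfl
  · left; simpa [h2] using hχ
  · right; simpa [h2] using hχ

theorem dirr_iff {H : Subgroup G} {φ : G → ℂ} : Dirr H φ ↔ φ ∈ VChar H ∧ nsq H φ = 1 :=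
  ⟨fun h => ⟨h.mem_VChar, h.nsq⟩, fun h => dirr_of_nsq_one h.1 h.2⟩

omit [Finite G] in
theorem dsign_cases (φ : G → ℂ) : dsign φ = 1 ∨ dsign φ = -1 := by
  unfold dsign; split_ifs <;> simp

omit [Finite G] in
theorem dsign_mul_self (φ : G → ℂ) : (dsign φ : ℂ) * dsign φ = 1 := by
  rcases dsign_cases φ with h | h <;> simp [h]

omit [Finite G] in
theorem dsign_ne_zero (φ : G → ℂ) : (dsign φ : ℂ) ≠ 0 := left_ne_zero_of_mul_eq_one (dsign_mul_self φ)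

omit [Finite G] in
theorem dsign_smul_dabs (φ : G → ℂ) : (dsign φ : ℂ) • dabs φ = φ := by
  rw [dabs, smul_smul, dsign_mul_self, one_smul]

theorem dsign_irr {H : Subgroup G} {χ : G → ℂ} (h : χ ∈ Irr H) : dsign χ = 1 := by
  unfold dsign
  rw [if_pos]
  rw [irr_one_eq h, Complex.natCast_re]; exact_mod_cast irr_dg_pos h

theorem dsign_neg_irr {H : Subgroup G} {χ : G → ℂ} (h : χ ∈ Irr H) : dsign (-χ) = -1 := by
  unfold dsign
  rw [if_neg]
  rw [Pi.neg_apply, irr_one_eq h, Complex.neg_re, Complex.natCast_re]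
  simp

theorem dabs_irr {H : Subgroup G} {χ : G → ℂ} (h : χ ∈ Irr H) : dabs χ = χ := by
  simp [dabs, dsign_irr h]

theorem dabs_neg_irr {H : Subgroup G} {χ : G → ℂ} (h : χ ∈ Irr H) : dabs (-χ) = χ := by
  simp [dabs, dsign_neg_irr h]

theorem Dirr.dabs_mem {H : Subgroup G} {φ : G → ℂ} (h : Dirr H φ) : dabs φ ∈ Irr H := by
  rcases h with h | h
  · rwa [dabs_irr h]
  · rw [← neg_neg φ, dabs_neg_irr h]; exact h

theorem Dirr.exists_sign {H : Subgroup G} {φ : G → ℂ} (h : Dirr H φ) :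
    ∃ ε : ℤ, (ε = 1 ∨ ε = -1) ∧ ∃ χ ∈ Irr H, φ = (ε : ℂ) • χ :=
  ⟨dsign φ, dsign_cases φ, dabs φ, h.dabs_mem, (dsign_smul_dabs φ).symm⟩

theorem dirr_sign_smul {H : Subgroup G} {φ : G → ℂ} (h : Dirr H φ) {ε : ℤ} (hε : ε = 1 ∨ ε = -1) :
    Dirr H ((ε : ℂ) • φ) := by
  rcases hε with rfl | rfl
  · simpa using h
  · simpa using h.neg

theorem dsign_dabs_of_eq {H : Subgroup G} {φ χ : G → ℂ} (hχ : χ ∈ Irr H) {ε : ℤ}
    (hε : ε = 1 ∨ ε = -1) (h : φ = (ε : ℂ) • χ) : dsign φ = ε ∧ dabs φ = χ := by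
  rcases hε with rfl | rfl
  · rw [h]; simpa using ⟨dsign_irr hχ, dabs_irr hχ⟩
  · rw [h]; simpa using ⟨dsign_neg_irr hχ, dabs_neg_irr hχ⟩

/-- Two signed irreducible characters are equal, opposite or orthogonal. -/
theorem Dirr.ip_cases {H : Subgroup G} {φ ψ : G → ℂ} (h : Dirr H φ) (h' : Dirr H ψ) :
    φ = ψ ∨ φ = -ψ ∨ ip H φ ψ = 0 := by
  rcases h with h | h <;> rcases h' with h' | h'
  · by_cases e : φ = ψ
    · exact Or.inl e
    · exact Or.inr (Or.inr (ip_irr_of_ne h h' e))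
  · by_cases e : φ = -ψ
    · exact Or.inr (Or.inl e)
    · exact Or.inr (Or.inr (by simpa using ip_irr_of_ne h h' e))
  · by_cases e : -φ = ψ
    · exact Or.inr (Or.inl (by rw [← e, neg_neg]))
    · exact Or.inr (Or.inr (by simpa using ip_irr_of_ne h h' e))
  · by_cases e : -φ = -ψ
    · exact Or.inl (neg_injective e)
    · exact Or.inr (Or.inr (by simpa using ip_irr_of_ne h h' e))

theorem Dirr.eq_of_ip_eq_one {H : Subgroup G} {φ ψ : G → ℂ} (h : Dirr H φ) (h' : Dirr H ψ)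
    (e : ip H φ ψ = 1) : φ = ψ := by
  rcases h.ip_cases h' with h1 | h1 | h1
  · exact h1
  · rw [h1, ip_neg_left, h'.ip_self] at e; norm_num at e
  · rw [h1] at e; exact absurd e zero_ne_one

/-- A virtual character of small norm (at most 3) is a sum of distinct signed irreducibles. -/
theorem vchar_small_norm {H : Subgroup G} {φ : G → ℂ} (h : φ ∈ VChar H) {n : ℕ}
    (hn : nsq H φ = n) (h3 : n ≤ 3) :
    ∃ E : Finset (G → ℂ), E.card = n ∧ (∀ α ∈ E, Dirr H α) ∧ ON H E ∧ φ = ∑ α ∈ E, α := by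
  have h1 : ∀ χ ∈ constt H φ, ip H φ χ = 1 ∨ ip H φ χ = -1 := fun χ hχ => by
    obtain ⟨hχ, h0⟩ := mem_constt.1 hχ
    obtain ⟨m, hm⟩ := (mem_VChar_iff.1 h).2 χ hχ
    have h2 := ((on_Irr H).mono (F := {χ}) (by simpa using hχ)).bessel φ
    rw [Finset.sum_singleton, hm, hn, Complex.norm_intCast, sq_abs] at h2
    have h4 : m ^ 2 ≤ 3 := by
      have : (n : ℝ) ≤ 3 := by exact_mod_cast h3
      exact_mod_cast h2.trans this
    rw [hm] at h0 ⊢
    have h5 : m ≠ 0 := by exact_mod_cast h0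
    have : m = 1 ∨ m = -1 := by
      have h6 : -2 < m := by nlinarith
      have h7 : m < 2 := by nlinarith
      omega
    rcases this with rfl | rfl <;> simp
  have hinj : Set.InjOn (fun χ => ip H φ χ • χ) (constt H φ : Set (G → ℂ)) := by
    intro χ hχ ψ hψ e
    by_contra hne
    have h2 := congrArg (fun θ => ip H θ χ) e
    simp only [ip_smul_left, ip_irr_self (mem_constt.1 hχ).1,
      ip_irr_of_ne (mem_constt.1 hψ).1 (mem_constt.1 hχ).1 (Ne.symm hne), mul_one, mul_zero] at h2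
    exact (mem_constt.1 hχ).2 h2
  have hd : ∀ α ∈ (constt H φ).image (fun χ => ip H φ χ • χ), Dirr H α := fun α hα => by
    obtain ⟨χ, hχ, rfl⟩ := Finset.mem_image.1 hα
    rcases h1 χ hχ with e | e
    · left; simpa [e] using (mem_constt.1 hχ).1
    · right; simpa [e] using (mem_constt.1 hχ).1
  have hon : ON H ((constt H φ).image (fun χ => ip H φ χ • χ)) :=
    ⟨fun α hα => (hd α hα).ip_self, fun α hα β hβ hne => by
      obtain ⟨χ, hχ, rfl⟩ := Finset.mem_image.1 hα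
      obtain ⟨ψ, hψ, rfl⟩ := Finset.mem_image.1 hβ
      have : χ ≠ ψ := by rintro rfl; exact hne rfl
      simp [ip_irr_of_ne (mem_constt.1 hχ).1 (mem_constt.1 hψ).1 this]⟩
  have hs : φ = ∑ α ∈ (constt H φ).image (fun χ => ip H φ χ • χ), α := by
    rw [Finset.sum_image hinj]; exact eq_sum_constt (vchar_mem_CF h)
  refine ⟨_, ?_, hd, hon, hs⟩
  have := hon.nsq_sum
  rw [← hs, hn] at this
  exact_mod_cast this.symm

/-- A virtual character of norm 2 vanishing at `1` is a difference of two irreducibles. -/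
theorem vchar_norm_two {H : Subgroup G} {φ : G → ℂ} (h : φ ∈ VChar H) (h2 : nsq H φ = 2)
    (h1 : φ 1 = 0) : ∃ χ ∈ Irr H, ∃ ψ ∈ Irr H, χ ≠ ψ ∧ φ = χ - ψ := by
  obtain ⟨E, hc, hd, hon, hs⟩ := vchar_small_norm h (n := 2) (by simpa using h2) (by norm_num)
  obtain ⟨α, β, hne, rfl⟩ := Finset.card_eq_two.1 hc
  rw [Finset.sum_pair hne] at hs
  have hα := hd α (by simp)
  have hβ := hd β (by simp)
  have h0 := hon.2 α (by simp) β (by simp) hne
  have hpos : ∀ χ ∈ Irr H, ∀ ψ ∈ Irr H, χ 1 + ψ 1 ≠ 0 := fun χ hχ ψ hψ => by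
    rw [irr_one_eq hχ, irr_one_eq hψ]
    have := irr_dg_pos hχ
    exact_mod_cast (by omega : dg χ + dg ψ ≠ 0)
  rw [hs, Pi.add_apply] at h1
  rcases hα with hα | hα <;> rcases hβ with hβ | hβ
  · exact (hpos α hα β hβ h1).elim
  · refine ⟨α, hα, -β, hβ, ?_, by rw [hs, sub_neg_eq_add]⟩
    rintro rfl
    have := ip_irr_self hβ
    simp only [ip_neg_left, ip_neg_right, neg_neg, neg_eq_zero] at this h0
    rw [h0] at this; exact zero_ne_one this
  · refine ⟨β, hβ, -α, hα, ?_, by rw [hs, sub_neg_eq_add, add_comm]⟩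
    rintro rfl
    have := ip_irr_self hα
    simp only [ip_neg_left, ip_neg_right, neg_neg, neg_eq_zero] at this h0
    rw [h0] at this; exact zero_ne_one this
  · exact (hpos _ hα _ hβ (by simp only [Pi.neg_apply]; rw [← neg_add, h1, neg_zero])).elim

end Cfsg.Agent.FT
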