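/-
Character base library, part 3: kernels, conjugation, induction.
-/
import Cfsg.Agent.FT.C.Irr

set_option autoImplicit false

namespace Cfsg.Agent.FT

open Subgroup Cfsg Cfsg.Agent
open scoped ComplexConjugate

universe u

variable {G : Type u} [Group G]

/-! ### Conjugation -/

theorem cfConj_apply (g : G) (φ : G → ℂ) (x : G) : cfConj g φ x = φ (g⁻¹ * x * g) := rfl

theorem cfConj_apply_conj (g : G) (φ : G → ℂ) (x : G) : cfConj g φ (g * x * g⁻¹) = φ x := by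
  rw [cfConj_apply]; congr 1; group

@[simp] theorem cfConj_apply_one (g : G) (φ : G → ℂ) : cfConj g φ 1 = φ 1 := by
  simp [cfConj_apply]

@[simp] theorem dg_cfConj (g : G) (φ : G → ℂ) : dg (cfConj g φ) = dg φ :=
  dg_congr (cfConj_apply_one g φ)

@[simp] theorem cfConj_one (φ : G → ℂ) : cfConj 1 φ = φ := by
  funext x; simp [cfConj_apply]

theorem cfConj_cfConj (g h : G) (φ : G → ℂ) : cfConj g (cfConj h φ) = cfConj (g * h) φ := by
  funext x; simp only [cfConj_apply]; congr 1; group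

@[simp] theorem cfConj_inv_cfConj (g : G) (φ : G → ℂ) : cfConj g⁻¹ (cfConj g φ) = φ := by
  rw [cfConj_cfConj, inv_mul_cancel, cfConj_one]

@[simp] theorem cfConj_cfConj_inv (g : G) (φ : G → ℂ) : cfConj g (cfConj g⁻¹ φ) = φ := by
  rw [cfConj_cfConj, mul_inv_cancel, cfConj_one]

theorem cfConj_injective (g : G) : Function.Injective (cfConj g : (G → ℂ) → G → ℂ) :=
  Function.LeftInverse.injective (cfConj_inv_cfConj g)

theorem cfConj_mul (g : G) (φ ψ : G → ℂ) : cfConj g (φ * ψ) = cfConj g φ * cfConj g ψ := rfl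

theorem cfConj_star (g : G) (φ : G → ℂ) : cfConj g (star φ) = star (cfConj g φ) := rfl

theorem cfConj_cfAut (g : G) (u : ℂ →+* ℂ) (φ : G → ℂ) :
    cfConj g (cfAut u φ) = cfAut u (cfConj g φ) := rfl

theorem cfConj_res (g : G) (H : Subgroup G) (φ : G → ℂ) :
    cfConj g (res H φ) = res (H ^ᵍ g) (cfConj g φ) := by
  funext x
  by_cases hx : x ∈ H ^ᵍ g
  · rw [res_of_mem _ hx, cfConj_apply, cfConj_apply, res_of_mem _ (mem_conj.1 hx)]
  · rw [res_of_notMem _ hx, cfConj_apply, res_of_notMem _ fun h => hx (mem_conj.2 h)]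

theorem cfConj_res_of_norm {g : G} {H : Subgroup G} (hg : g ∈ 𝐍(H)) (φ : G → ℂ) :
    cfConj g (res H φ) = res H (cfConj g φ) := by rw [cfConj_res, conj_eq_of_mem_norm hg]

theorem cfConj_cf1 (g : G) (H : Subgroup G) : cfConj g (cf1 H) = cf1 (H ^ᵍ g) := cfConj_res g H 1

theorem cfConj_cf1_of_norm {g : G} {H : Subgroup G} (hg : g ∈ 𝐍(H)) : cfConj g (cf1 H) = cf1 H := by
  rw [cfConj_cf1, conj_eq_of_mem_norm hg]

theorem cfConj_eq_self {H : Subgroup G} {φ : G → ℂ} (hφ : φ ∈ CF H) {g : G} (hg : g ∈ H) :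
    cfConj g φ = φ := funext fun x => CF_conj' hφ hg x

theorem cfConj_mem_CF {H : Subgroup G} {φ : G → ℂ} (hφ : φ ∈ CF H) (g : G) :
    cfConj g φ ∈ CF (H ^ᵍ g) :=
  ⟨fun x hx => CF_off hφ fun h => hx (mem_conj.2 h), fun k hk x => by
    rw [cfConj_apply, cfConj_apply, ← CF_conj hφ (mem_conj.1 hk) (g⁻¹ * x * g)]
    congr 1; group⟩

theorem cfConj_mem_CF_of_norm {H : Subgroup G} {φ : G → ℂ} (hφ : φ ∈ CF H) {g : G}
    (hg : g ∈ 𝐍(H)) : cfConj g φ ∈ CF H := by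
  simpa only [conj_eq_of_mem_norm hg] using cfConj_mem_CF hφ g

/-- `x ↦ g⁻¹ x g` as an isomorphism `H ^ᵍ g ≃ H`. -/
def conjBack (H : Subgroup G) (g : G) : ↥(H ^ᵍ g) →* H where
  toFun x := ⟨g⁻¹ * x * g, mem_conj.1 x.2⟩
  map_one' := Subtype.ext (by simp)
  map_mul' x y := Subtype.ext (by
    show g⁻¹ * (x * y) * g = g⁻¹ * x * g * (g⁻¹ * y * g)
    group)

theorem IsChar.cfConj {H : Subgroup G} {φ : G → ℂ} (h : IsChar H φ) (g : G) :
    IsChar (H ^ᵍ g) (cfConj g φ) :=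
  ⟨(cfConj_mem_CF h.mem_CF g).1, h.2.comp (conjBack H g)⟩

theorem IsChar.cfConj_of_norm {H : Subgroup G} {φ : G → ℂ} (h : IsChar H φ) {g : G}
    (hg : g ∈ 𝐍(H)) : IsChar H (FT.cfConj g φ) := by
  simpa only [conj_eq_of_mem_norm hg] using h.cfConj g

theorem IsLin.cfConj {H : Subgroup G} {φ : G → ℂ} (h : IsLin H φ) (g : G) :
    IsLin (H ^ᵍ g) (cfConj g φ) :=
  ⟨fun x hx => h.1 _ fun h' => hx (mem_conj.2 h'), by simp [h.2.1], fun x hx y hy => by
    rw [cfConj_apply, cfConj_apply, cfConj_apply, ← h.2.2 _ (mem_conj.1 hx) _ (mem_conj.1 hy)]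
    congr 1; group⟩

theorem IsLin.cfConj_of_norm {H : Subgroup G} {φ : G → ℂ} (h : IsLin H φ) {g : G}
    (hg : g ∈ 𝐍(H)) : IsLin H (FT.cfConj g φ) := by
  simpa only [conj_eq_of_mem_norm hg] using h.cfConj g

theorem mem_inertia {φ : G → ℂ} {g : G} : g ∈ inertia φ ↔ cfConj g φ = φ :=
  ⟨fun h => funext h, fun h x => congrFun h x⟩

theorem le_inertia {H : Subgroup G} {φ : G → ℂ} (hφ : φ ∈ CF H) : H ≤ inertia φ :=
  fun _ hg => mem_inertia.2 (cfConj_eq_self hφ hg)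

theorem cent_le_inertia {H : Subgroup G} {φ : G → ℂ} (hφ : ∀ x, x ∉ H → φ x = 0) :
    𝐂(H) ≤ inertia φ := fun g hg x => by
  by_cases hx : x ∈ H
  · rw [mul_assoc, mem_cent.1 hg x hx, inv_mul_cancel_left]
  · rw [hφ x hx, hφ]
    intro h
    apply hx
    have := mem_cent.1 hg _ h
    have e : x = g⁻¹ * x * g := by
      calc x = g * (g⁻¹ * x * g) * g⁻¹ := by group
        _ = _ := by rw [← this]; group
    rwa [e]

theorem cfConj_eq_cfConj_iff {φ : G → ℂ} {g h : G} :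
    cfConj g φ = cfConj h φ ↔ h⁻¹ * g ∈ inertia φ := by
  rw [mem_inertia, ← cfConj_cfConj]
  exact ⟨fun e => by rw [e, cfConj_inv_cfConj], fun e => by
    have := congrArg (cfConj h) e
    rwa [cfConj_cfConj_inv] at this⟩

theorem inertia_cfConj (φ : G → ℂ) (g : G) : inertia (cfConj g φ) = inertia φ ^ᵍ g := by
  ext x
  rw [mem_conj, mem_inertia, cfConj_cfConj, cfConj_eq_cfConj_iff, mul_assoc]

theorem inertia_cfAut (u : ℂ →+* ℂ) (φ : G → ℂ) : inertia (cfAut u φ) = inertia φ := by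
  ext x
  rw [mem_inertia, mem_inertia, cfConj_cfAut, (cfAut_injective u).eq_iff]

theorem inertia_star (φ : G → ℂ) : inertia (star φ) = inertia φ := inertia_cfAut (starRingEnd ℂ) φ

theorem inf_inertia_le_inertia_res {H : Subgroup G} (φ : G → ℂ) :
    𝐍(H) ⊓ inertia φ ≤ inertia (res H φ) := fun g hg => by
  rw [mem_inertia, cfConj_res_of_norm hg.1, mem_inertia.1 hg.2]

theorem le_inertia_res {K L : Subgroup G} (hK : L ≤ 𝐍(K)) {φ : G → ℂ} (hφ : φ ∈ CF L) :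
    L ≤ inertia (res K φ) := (le_inf hK (le_inertia hφ)).trans (inf_inertia_le_inertia_res φ)

theorem norm_le_inertia_cf1 (H : Subgroup G) : 𝐍(H) ≤ inertia (cf1 H) :=
  fun _ hg => mem_inertia.2 (cfConj_cf1_of_norm hg)

/-! ### Kernels -/

theorem mem_cfKer {φ : G → ℂ} {x : G} : x ∈ cfKer φ ↔ ∀ y, φ (x * y) = φ y := Iff.rfl

theorem apply_of_mem_cfKer {φ : G → ℂ} {x : G} (h : x ∈ cfKer φ) : φ x = φ 1 := by
  simpa using h 1

theorem cfKer_le {H : Subgroup G} {φ : G → ℂ} (hφ : φ ∈ CF H) (h0 : φ ≠ 0) : cfKer φ ≤ H := by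
  intro x hx
  obtain ⟨y, hy⟩ := Function.ne_iff.1 h0
  have h1 : y ∈ H := by by_contra h; exact hy (CF_off hφ h)
  have h2 : x * y ∈ H := by by_contra h; exact hy (by rw [← hx y]; exact CF_off hφ h)
  simpa using H.mul_mem h2 (H.inv_mem h1)

theorem apply_mul_of_mem_cfKer {H : Subgroup G} {φ : G → ℂ} (hφ : φ ∈ CF H) {x : G}
    (hx : x ∈ cfKer φ) (y : G) : φ (y * x) = φ y := by
  by_cases h0 : φ = 0
  · simp [h0]
  · rw [← CF_mul_comm hφ (cfKer_le hφ h0 hx), hx]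

theorem cfKer_cfConj (φ : G → ℂ) (g : G) : cfKer (cfConj g φ) = cfKer φ ^ᵍ g := by
  ext x
  rw [mem_conj, mem_cfKer, mem_cfKer]
  refine ⟨fun h y => ?_, fun h y => ?_⟩
  · have := h (g * y * g⁻¹)
    rw [cfConj_apply_conj, cfConj_apply] at this
    rw [← this]; congr 1; group
  · rw [cfConj_apply, cfConj_apply, ← h (g⁻¹ * y * g)]; congr 1; group

theorem inertia_le_norm_cfKer (φ : G → ℂ) : inertia φ ≤ 𝐍(cfKer φ) := fun g hg => by
  rw [← conj_eq_self_iff, ← cfKer_cfConj, mem_inertia.1 hg]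

theorem le_norm_cfKer {H : Subgroup G} {φ : G → ℂ} (hφ : φ ∈ CF H) : H ≤ 𝐍(cfKer φ) :=
  (le_inertia hφ).trans (inertia_le_norm_cfKer φ)

theorem le_cfKer_cfConj_iff {N : Subgroup G} {g : G} (hg : g ∈ 𝐍(N)) {φ : G → ℂ} :
    N ≤ cfKer (cfConj g φ) ↔ N ≤ cfKer φ := by
  rw [cfKer_cfConj]
  conv_lhs => rw [← conj_eq_of_mem_norm hg]
  exact conj_le_conj_iff

theorem cfKer_cfAut (u : ℂ →+* ℂ) (φ : G → ℂ) : cfKer (cfAut u φ) = cfKer φ := by
  ext x; simp only [mem_cfKer, cfAut_apply, u.injective.eq_iff]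

theorem cfKer_star (φ : G → ℂ) : cfKer (star φ) = cfKer φ := cfKer_cfAut (starRingEnd ℂ) φ

theorem cfKer_smul {c : ℂ} (hc : c ≠ 0) (φ : G → ℂ) : cfKer (c • φ) = cfKer φ := by
  ext x; simp only [mem_cfKer, Pi.smul_apply, smul_eq_mul, mul_right_inj' hc]

theorem cfKer_neg (φ : G → ℂ) : cfKer (-φ) = cfKer φ := by
  ext x; simp only [mem_cfKer, Pi.neg_apply, neg_inj]

theorem inf_cfKer_le_add (φ ψ : G → ℂ) : cfKer φ ⊓ cfKer ψ ≤ cfKer (φ + ψ) :=
  fun x hx y => by simp only [Pi.add_apply, hx.1 y, hx.2 y]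

theorem inf_cfKer_le_sub (φ ψ : G → ℂ) : cfKer φ ⊓ cfKer ψ ≤ cfKer (φ - ψ) :=
  fun x hx y => by simp only [Pi.sub_apply, hx.1 y, hx.2 y]

theorem inf_cfKer_le_mul (φ ψ : G → ℂ) : cfKer φ ⊓ cfKer ψ ≤ cfKer (φ * ψ) :=
  fun x hx y => by simp only [Pi.mul_apply, hx.1 y, hx.2 y]

theorem le_cfKer_sum {ι : Type*} {N : Subgroup G} {s : Finset ι} {f : ι → G → ℂ}
    (h : ∀ i ∈ s, N ≤ cfKer (f i)) : N ≤ cfKer (∑ i ∈ s, f i) := fun x hx y => by
  simp only [Finset.sum_apply]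
  exact Finset.sum_congr rfl fun i hi => h i hi hx y

theorem inf_cfKer_le_res (K : Subgroup G) (φ : G → ℂ) : K ⊓ cfKer φ ≤ cfKer (res K φ) := by
  intro x hx y
  by_cases hy : y ∈ K
  · rw [res_of_mem _ hy, res_of_mem _ (K.mul_mem hx.1 hy), hx.2 y]
  · rw [res_of_notMem _ hy, res_of_notMem _ fun h => hy ((K.mul_mem_cancel_left hx.1).1 h)]

theorem le_cfKer_res {N K : Subgroup G} (hN : N ≤ K) {φ : G → ℂ} (h : N ≤ cfKer φ) :
    N ≤ cfKer (res K φ) := (le_inf hN h).trans (inf_cfKer_le_res K φ)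

theorem le_cfKer_cf1 (H : Subgroup G) : H ≤ cfKer (cf1 H) :=
  le_cfKer_res le_rfl fun _ _ _ => rfl

theorem res_eq_smul_cf1 {N : Subgroup G} {φ : G → ℂ} (h : N ≤ cfKer φ) :
    res N φ = φ 1 • cf1 N := by
  funext x
  by_cases hx : x ∈ N
  · simp [res_of_mem _ hx, cf1_of_mem hx, apply_of_mem_cfKer (h hx)]
  · simp [res_of_notMem _ hx, cf1_of_notMem hx]

theorem IsLin.mem_cfKer_iff {H : Subgroup G} {φ : G → ℂ} (h : IsLin H φ) {x : G} :
    x ∈ cfKer φ ↔ φ x = 1 := by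
  refine ⟨fun hx => by rw [apply_of_mem_cfKer hx, h.2.1], fun hx y => ?_⟩
  have hxH : x ∈ H := by by_contra h'; rw [h.1 x h'] at hx; exact zero_ne_one hx
  by_cases hy : y ∈ H
  · rw [h.2.2 x hxH y hy, hx, one_mul]
  · rw [h.1 y hy, h.1 _ fun h' => hy ((H.mul_mem_cancel_left hxH).1 h')]

theorem IsLin.der_le_cfKer {H : Subgroup G} {φ : G → ℂ} (h : IsLin H φ) : ⁅H, H⁆ ≤ cfKer φ := by
  rw [commutator_le]
  intro a ha b hb
  rw [h.mem_cfKer_iff, commutatorElement_def,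
    h.2.2 _ (H.mul_mem (H.mul_mem ha hb) (H.inv_mem ha)) _ (H.inv_mem hb),
    h.2.2 _ (H.mul_mem ha hb) _ (H.inv_mem ha), h.2.2 _ ha _ hb]
  calc _ = (φ a * φ a⁻¹) * (φ b * φ b⁻¹) := by ring
    _ = 1 := by rw [h.mul_inv ha, h.mul_inv hb, one_mul]

variable [Finite G]

theorem IsChar.mem_cfKer_iff {H : Subgroup G} {φ : G → ℂ} (h : IsChar H φ) {x : G} :
    x ∈ cfKer φ ↔ φ x = φ 1 := by
  refine ⟨apply_of_mem_cfKer, fun hx y => ?_⟩
  by_cases h0 : φ = 0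
  · simp [h0]
  have hxH : x ∈ H := by
    by_contra h'
    rw [h.off h', h.one_eq] at hx
    exact (h.dg_pos h0).ne' (by exact_mod_cast hx.symm)
  by_cases hy : y ∈ H
  · obtain ⟨N, -, h1, h2, -⟩ := h.2.exists_ker
    rw [CF_mul_comm h.mem_CF hxH]
    exact h2 ⟨x, hxH⟩ ((h1 _).2 hx) ⟨y, hy⟩
  · rw [h.off hy, h.off fun h' => hy ((H.mul_mem_cancel_left hxH).1 h')]

theorem irr_cfKer_le {H : Subgroup G} {χ : G → ℂ} (h : χ ∈ Irr H) : cfKer χ ≤ H :=
  cfKer_le (irr_mem_CF h) (irr_ne_zero h)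

theorem IsChar.le_cfKer_res_iff {N K H : Subgroup G} (hN : N ≤ K) (hK : K ≤ H) {φ : G → ℂ}
    (h : IsChar H φ) : N ≤ cfKer (FT.res K φ) ↔ N ≤ cfKer φ :=
  ⟨fun h' x hx => h.mem_cfKer_iff.2 (by
    have := apply_of_mem_cfKer (h' hx)
    rwa [res_of_mem _ (hN hx), res_one] at this), le_cfKer_res hN⟩

theorem IsChar.cfKer_add {H : Subgroup G} {φ ψ : G → ℂ} (h : IsChar H φ) (h' : IsChar H ψ) :
    cfKer (φ + ψ) = cfKer φ ⊓ cfKer ψ := by
  refine le_antisymm (fun x hx => ?_) (inf_cfKer_le_add φ ψ)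
  have e := apply_of_mem_cfKer hx
  simp only [Pi.add_apply, h.one_eq, h'.one_eq] at e
  have e1 := congrArg Complex.re e
  simp only [Complex.add_re, Complex.natCast_re] at e1
  have a1 := (Complex.re_le_norm _).trans (h.norm_le x)
  have a2 := (Complex.re_le_norm _).trans (h'.norm_le x)
  have key : ∀ {z : ℂ} {n : ℕ}, ‖z‖ ≤ n → z.re = n → z = n := fun {z n} h1 h2 => by
    have h3 : z.re = ‖z‖ := le_antisymm (Complex.re_le_norm z) (h2 ▸ h1)
    have h4 := Complex.re_eq_norm.1 h3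
    exact Complex.ext (by simpa using h2) (by simpa using (Complex.le_def.1 h4).2.symm)
  exact ⟨h.mem_cfKer_iff.2 (by rw [h.one_eq]; exact key (h.norm_le x) (by linarith)),
    h'.mem_cfKer_iff.2 (by rw [h'.one_eq]; exact key (h'.norm_le x) (by linarith))⟩

theorem IsChar.cfKer_le_constt {H : Subgroup G} {φ χ : G → ℂ} (h : IsChar H φ)
    (hχ : χ ∈ constt H φ) : cfKer φ ≤ cfKer χ := by
  have := (irr_isChar (mem_constt.1 hχ).1).cfKer_add (h.sub_constt hχ)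
  rw [add_sub_cancel] at this
  rw [this]; exact inf_le_left

theorem IsChar.le_cfKer_iff_constt {H N : Subgroup G} {φ : G → ℂ} (h : IsChar H φ) :
    N ≤ cfKer φ ↔ ∀ χ ∈ constt H φ, N ≤ cfKer χ := by
  refine ⟨fun h' χ hχ => h'.trans (h.cfKer_le_constt hχ), fun h' => ?_⟩
  rw [eq_sum_constt h.mem_CF]
  exact le_cfKer_sum fun χ hχ => by rw [cfKer_smul (mem_constt.1 hχ).2]; exact h' χ hχ

theorem irr_eq_cf1_iff {H : Subgroup G} {χ : G → ℂ} (h : χ ∈ Irr H) :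
    χ = cf1 H ↔ H ≤ cfKer χ := by
  refine ⟨fun e => e ▸ le_cfKer_cf1 H, fun h' => irr_eq_of_ip_ne_zero h (cf1_mem_Irr H) ?_⟩
  rw [← ip_res_left, res_eq_smul_cf1 h', ip_smul_left, ip_cf1_cf1, mul_one]
  exact irr_one_ne_zero h

theorem ip_cfConj (H : Subgroup G) (g : G) (φ ψ : G → ℂ) :
    ip (H ^ᵍ g) (cfConj g φ) (cfConj g ψ) = ip H φ ψ := by
  rw [ip_def, ip_def, card_conj]
  congr 1
  exact sum_fs_bij (fun x => g⁻¹ * x * g) ⟨fun x hx => mem_conj.1 hx,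
    fun _ _ _ _ h => mul_left_cancel (mul_right_cancel h),
    fun y hy => ⟨g * y * g⁻¹, conj_mem_conj hy g, by simp [mul_assoc]⟩⟩
    fun x => φ x * conj (ψ x)

theorem ip_cfConj_of_norm {H : Subgroup G} {g : G} (hg : g ∈ 𝐍(H)) (φ ψ : G → ℂ) :
    ip H (cfConj g φ) (cfConj g ψ) = ip H φ ψ := by
  simpa only [conj_eq_of_mem_norm hg] using ip_cfConj H g φ ψ

theorem cfConj_mem_Irr {H : Subgroup G} {χ : G → ℂ} (h : χ ∈ Irr H) (g : G) :
    cfConj g χ ∈ Irr (H ^ᵍ g) := by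
  rw [((irr_isChar h).cfConj g).mem_Irr_iff, nsq_eq_one_iff, ip_cfConj, ip_irr_self h]

theorem cfConj_mem_Irr_of_norm {H : Subgroup G} {χ : G → ℂ} (h : χ ∈ Irr H) {g : G}
    (hg : g ∈ 𝐍(H)) : cfConj g χ ∈ Irr H := by
  simpa only [conj_eq_of_mem_norm hg] using cfConj_mem_Irr h g

theorem vchar_cfConj {H : Subgroup G} {φ : G → ℂ} (h : φ ∈ VChar H) (g : G) :
    cfConj g φ ∈ VChar (H ^ᵍ g) :=
  map_mem_of_mem_Zs (fun _ hχ => irr_mem_VChar (cfConj_mem_Irr hχ g)) h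

theorem mem_cfClass {L : Subgroup G} {φ ψ : G → ℂ} :
    ψ ∈ cfClass L φ ↔ ∃ g ∈ L, cfConj g φ = ψ := by
  simp [cfClass]

theorem self_mem_cfClass (L : Subgroup G) (φ : G → ℂ) : φ ∈ cfClass L φ :=
  mem_cfClass.2 ⟨1, L.one_mem, cfConj_one φ⟩

theorem cfClass_eq_of_mem {L : Subgroup G} {φ ψ : G → ℂ} (h : ψ ∈ cfClass L φ) :
    cfClass L ψ = cfClass L φ := by
  obtain ⟨g, hg, rfl⟩ := mem_cfClass.1 h
  ext θ
  simp only [mem_cfClass, cfConj_cfConj]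
  exact ⟨fun ⟨k, hk, e⟩ => ⟨k * g, L.mul_mem hk hg, e⟩,
    fun ⟨k, hk, e⟩ => ⟨k * g⁻¹, L.mul_mem hk (L.inv_mem hg), by simpa using e⟩⟩

theorem mem_cfClass_comm {L : Subgroup G} {φ ψ : G → ℂ} : ψ ∈ cfClass L φ ↔ φ ∈ cfClass L ψ :=
  ⟨fun h => by rw [cfClass_eq_of_mem h]; exact self_mem_cfClass L φ,
    fun h => by rw [cfClass_eq_of_mem h]; exact self_mem_cfClass L ψ⟩

theorem cfClass_subset_Irr {L H : Subgroup G} (hL : L ≤ 𝐍(H)) {χ : G → ℂ} (h : χ ∈ Irr H) :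
    cfClass L χ ⊆ Irr H := fun ψ hψ => by
  obtain ⟨g, hg, rfl⟩ := mem_cfClass.1 hψ
  exact cfConj_mem_Irr_of_norm h (hL hg)

theorem sum_fs_cfConj {M : Type*} [AddCommMonoid M] (L : Subgroup G) (φ : G → ℂ)
    (f : (G → ℂ) → M) : ∑ g ∈ fs (L : Set G), f (cfConj g φ) =
      Nat.card (L ⊓ inertia φ : Subgroup G) • ∑ ψ ∈ cfClass L φ, f ψ := by
  classical
  rw [cfClass, ← Finset.sum_fiberwise_of_maps_to (g := fun g => cfConj g φ)
    (fun g hg => Finset.mem_image_of_mem _ hg), Finset.smul_sum]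
  refine Finset.sum_congr rfl fun ψ hψ => ?_
  obtain ⟨g, hg, rfl⟩ := Finset.mem_image.1 hψ
  rw [Finset.sum_congr rfl fun k hk => by rw [(Finset.mem_filter.1 hk).2], Finset.sum_const,
    ← card_fs_coe]
  congr 1
  rw [mem_fs] at hg
  symm
  refine Finset.card_nbij (fun k => g * k) (fun k hk => ?_) (fun _ _ _ _ h => mul_left_cancel h)
    fun k hk => ?_
  · simp only [Finset.mem_coe, mem_fs, SetLike.mem_coe, mem_inf] at hk
    simp only [Finset.mem_coe, Finset.mem_filter, mem_fs, SetLike.mem_coe, cfConj_eq_cfConj_iff,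
      inv_mul_cancel_left]
    exact ⟨L.mul_mem hg hk.1, hk.2⟩
  · simp only [Finset.mem_coe, Finset.mem_filter, mem_fs, SetLike.mem_coe,
      cfConj_eq_cfConj_iff] at hk
    exact ⟨g⁻¹ * k, by
      simp only [Finset.mem_coe, mem_fs, SetLike.mem_coe, mem_inf]
      exact ⟨L.mul_mem (L.inv_mem hg) hk.1, hk.2⟩, by simp⟩

theorem card_cfClass (L : Subgroup G) (φ : G → ℂ) :
    (cfClass L φ).card = (inertia φ).relIndex L := by
  have h1 := sum_fs_cfConj L φ (fun _ => (1 : ℕ))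
  rw [sum_fs_const, smul_eq_mul, smul_eq_mul, mul_one, ← Finset.card_eq_sum_ones] at h1
  have h2 : Nat.card (L ⊓ inertia φ : Subgroup G) * (inertia φ).relIndex L = Nat.card L := by
    rw [← inf_relIndex_left]
    exact H1.card_mul_relIndex inf_le_left
  exact Nat.eq_of_mul_eq_mul_left Nat.card_pos (h1.symm.trans h2.symm)

/-! ### Induction -/

theorem ind_of_mem {L : Subgroup G} (H : Subgroup G) (φ : G → ℂ) {g : G} (hg : g ∈ L) :
    ind L H φ g = (Nat.card H : ℂ)⁻¹ * ∑ x ∈ fs (L : Set G), res H φ (x⁻¹ * g * x) := by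
  unfold ind; exact if_pos hg

theorem ind_of_notMem {L : Subgroup G} (H : Subgroup G) (φ : G → ℂ) {g : G} (hg : g ∉ L) :
    ind L H φ g = 0 := by
  unfold ind; exact if_neg hg

theorem ind_eq_sum_cfConj (L H : Subgroup G) (φ : G → ℂ) :
    ind L H φ = (Nat.card H : ℂ)⁻¹ • res L (∑ x ∈ fs (L : Set G), cfConj x (res H φ)) := by
  funext g
  by_cases hg : g ∈ L
  · rw [ind_of_mem H φ hg, Pi.smul_apply, res_of_mem _ hg, Finset.sum_apply]; rfl
  · rw [ind_of_notMem H φ hg, Pi.smul_apply, res_of_notMem _ hg, smul_zero]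

theorem ind_res_self (L H : Subgroup G) (φ : G → ℂ) : ind L H (res H φ) = ind L H φ := by
  rw [ind_eq_sum_cfConj, ind_eq_sum_cfConj, res_res_self]

theorem ind_congr (L : Subgroup G) {H : Subgroup G} {φ ψ : G → ℂ} (h : ∀ x ∈ H, φ x = ψ x) :
    ind L H φ = ind L H ψ := by
  rw [ind_eq_sum_cfConj, ind_eq_sum_cfConj, res_congr h]

theorem ind_mem_CF (L H : Subgroup G) (φ : G → ℂ) : ind L H φ ∈ CF L :=
  mem_CF_of (fun _ hx => ind_of_notMem H φ hx) fun g hg x hx => by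
    rw [ind_of_mem H φ hx, ind_of_mem H φ (L.mul_mem (L.mul_mem hg hx) (L.inv_mem hg)),
      ← sum_fs_mul_left hg]
    congr 1
    exact sum_fs_congr fun y _ => by congr 1; group

theorem ind_one {L H : Subgroup G} (h : H ≤ L) (φ : G → ℂ) :
    ind L H φ 1 = H.relIndex L * φ 1 := by
  rw [ind_of_mem H φ L.one_mem, sum_fs_congr (g := fun _ => φ 1) fun x _ => by simp, sum_fs_const,
    ← H1.card_mul_relIndex h, nsmul_eq_mul, Nat.cast_mul]
  field_simp [card_ne_zero_C H]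

theorem ind_apply_eq_zero {L H : Subgroup G} {φ : G → ℂ} {g : G}
    (h : ∀ x ∈ L, x⁻¹ * g * x ∈ H → φ (x⁻¹ * g * x) = 0) : ind L H φ g = 0 := by
  by_cases hg : g ∈ L
  · rw [ind_of_mem H φ hg, Finset.sum_eq_zero, mul_zero]
    intro x hx
    by_cases hx' : x⁻¹ * g * x ∈ H
    · rw [res_of_mem _ hx', h x (mem_fs.1 hx) hx']
    · exact res_of_notMem _ hx'
  · exact ind_of_notMem H φ hg

theorem ind_mem_CFon (L : Subgroup G) {H : Subgroup G} {A : Set G} {φ : G → ℂ}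
    (h : ∀ x ∈ H, x ∉ A → φ x = 0) : ind L H φ ∈ CFon L (classSupp A L) :=
  ⟨ind_mem_CF L H φ, fun g hg => ind_apply_eq_zero fun x hx hx' => h _ hx' fun hA =>
    hg ⟨_, hA, x, hx, by group⟩⟩

/-- The support of a function induced from `CF(H, A)` when `A` is `L`-invariant. -/
theorem ind_mem_CFon_of_norm {L H : Subgroup G} {A : Set G}
    (hA : ∀ g ∈ L, ∀ a ∈ A, g * a * g⁻¹ ∈ A) {φ : G → ℂ} (h : ∀ x ∈ H, x ∉ A → φ x = 0) :
    ind L H φ ∈ CFon L A :=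
  CFon_mono L (by rintro _ ⟨a, ha, g, hg, rfl⟩; exact hA g hg a ha) (ind_mem_CFon L h)

theorem ind_mem_CFon_normal {L H : Subgroup G} (hL : L ≤ 𝐍(H)) (φ : G → ℂ) :
    ind L H φ ∈ CFon L (H : Set G) :=
  ind_mem_CFon_of_norm (fun g hg a ha => (mem_normalizer_iff.1 (hL hg) a).1 ha)
    fun _ hx hx' => (hx' hx).elim

/-- Frobenius reciprocity. -/
theorem ip_ind_left {L H : Subgroup G} (h : H ≤ L) (φ : G → ℂ) {ψ : G → ℂ} (hψ : ψ ∈ CF L) :
    ip L (ind L H φ) ψ = ip H φ ψ := by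
  have h1 : ∀ x ∈ L, ∑ g ∈ fs (L : Set G), res H φ (x⁻¹ * g * x) * conj (ψ g) =
      ∑ g ∈ fs (H : Set G), φ g * conj (ψ g) := fun x hx => by
    rw [← sum_fs_conj (le_norm_self L hx), sum_fs_subset (A := H) (B := L) h
      (f := fun g => res H φ g * conj (ψ g)) (fun g _ hg => by rw [res_of_notMem _ hg, zero_mul])
      |>.symm.trans (sum_fs_congr fun g hg => by rw [res_of_mem _ hg]) |>.symm]
    exact sum_fs_congr fun g _ => by
      rw [CF_conj hψ hx]; congr 2; group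
  rw [ip_def, ip_def, sum_fs_congr fun g hg => by rw [ind_of_mem H φ hg, mul_assoc, Finset.sum_mul],
    ← Finset.mul_sum, Finset.sum_comm, sum_fs_congr h1, sum_fs_const, nsmul_eq_mul]
  field_simp [card_ne_zero_C L]

theorem ip_ind_right {L H : Subgroup G} (h : H ≤ L) {φ : G → ℂ} (hφ : φ ∈ CF L) (ψ : G → ℂ) :
    ip L φ (ind L H ψ) = ip H φ ψ := by
  rw [← conj_ip, ip_ind_left h ψ hφ, conj_ip]

theorem IsChar.ind {L H : Subgroup G} (hH : H ≤ L) {φ : G → ℂ} (h : IsChar H φ) :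
    IsChar L (ind L H φ) :=
  isChar_of_ip_nat (ind_mem_CF L H φ) fun χ hχ => by
    rw [ip_ind_left hH φ (irr_mem_CF hχ), ← ip_res_right]
    exact h.ip_nat ((irr_isChar hχ).res hH)

theorem IsChar.dg_ind {L H : Subgroup G} (hH : H ≤ L) {φ : G → ℂ} (h : IsChar H φ) :
    dg (FT.ind L H φ) = H.relIndex L * dg φ :=
  dg_eq_of (by rw [ind_one hH, h.one_eq, Nat.cast_mul])

theorem vchar_ind {L H : Subgroup G} (hH : H ≤ L) {φ : G → ℂ} (h : φ ∈ VChar H) :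
    ind L H φ ∈ VChar L :=
  map_mem_of_mem_Zs (fun _ hχ => ((irr_isChar hχ).ind hH).mem_VChar) h

theorem ind_irr_ne_zero {L H : Subgroup G} (hH : H ≤ L) {θ : G → ℂ} (h : θ ∈ Irr H) :
    ind L H θ ≠ 0 := fun e => by
  have := ind_one hH θ
  rw [e] at this
  have h1 : H.relIndex L ≠ 0 := index_ne_zero_of_finite
  exact mul_ne_zero (by exact_mod_cast h1) (irr_one_ne_zero h) this.symm

theorem ind_self {H : Subgroup G} {φ : G → ℂ} (hφ : φ ∈ CF H) : ind H H φ = φ :=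
  CF_ext_irr (ind_mem_CF H H φ) hφ fun _ hχ => ip_ind_left le_rfl φ (irr_mem_CF hχ)

theorem ind_ind {L K H : Subgroup G} (hK : K ≤ L) (hH : H ≤ K) (φ : G → ℂ) :
    ind L K (ind K H φ) = ind L H φ :=
  CF_ext_irr (ind_mem_CF _ _ _) (ind_mem_CF _ _ _) fun χ hχ => by
    have := irr_mem_CF hχ
    rw [ip_ind_left hK _ this, ip_ind_left (hH.trans hK) _ this, ← ip_res_right,
      ip_ind_left hH _ (res_mem_CF hK this), ← ip_res_right H φ (res K χ), res_res hH, ip_res_right]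

theorem ind_mul {L : Subgroup G} (H : Subgroup G) (φ : G → ℂ) {ψ : G → ℂ} (hψ : ψ ∈ CF L) :
    ind L H (φ * ψ) = ind L H φ * ψ := by
  funext g
  by_cases hg : g ∈ L
  · rw [Pi.mul_apply, ind_of_mem H _ hg, ind_of_mem H _ hg, mul_assoc, Finset.sum_mul]
    congr 1
    exact sum_fs_congr fun x hx => by rw [res_mul_left, Pi.mul_apply, CF_conj' hψ hx]
  · rw [Pi.mul_apply, ind_of_notMem H _ hg, ind_of_notMem H _ hg, zero_mul]

theorem ind_res {L : Subgroup G} (H : Subgroup G) {ψ : G → ℂ} (hψ : ψ ∈ CF L) :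
    ind L H (res H ψ) = ind L H (cf1 H) * ψ := by
  rw [← ind_mul H _ hψ, cf1_mul_eq_res]

theorem ind_cfAut (L H : Subgroup G) (u : ℂ →+* ℂ) (φ : G → ℂ) :
    ind L H (cfAut u φ) = cfAut u (ind L H φ) := by
  funext g
  by_cases hg : g ∈ L
  · simp only [cfAut_apply, ind_of_mem H _ hg, res_cfAut, map_mul, map_inv₀, map_natCast, map_sum]
  · simp only [cfAut_apply, ind_of_notMem H _ hg, map_zero]

theorem ind_star (L H : Subgroup G) (φ : G → ℂ) : ind L H (star φ) = star (ind L H φ) :=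
  ind_cfAut L H (starRingEnd ℂ) φ

theorem cfConj_ind (L H : Subgroup G) (g : G) (φ : G → ℂ) :
    cfConj g (ind L H φ) = ind (L ^ᵍ g) (H ^ᵍ g) (cfConj g φ) := by
  funext x
  by_cases hx : x ∈ L ^ᵍ g
  · rw [cfConj_apply, ind_of_mem _ _ hx, ind_of_mem _ _ (mem_conj.1 hx), card_conj, ← cfConj_res]
    congr 1
    symm
    rw [← sum_fs_bij (A := (L : Set G)) (B := (L ^ᵍ g : Subgroup G)) (fun y => g * y * g⁻¹)
      ⟨fun y hy => conj_mem_conj hy g, fun _ _ _ _ h => mul_left_cancel (mul_right_cancel h),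
        fun y hy => ⟨g⁻¹ * y * g, mem_conj.1 hy, by simp [mul_assoc]⟩⟩]
    exact sum_fs_congr fun y _ => by rw [cfConj_apply]; congr 1; group
  · rw [cfConj_apply, ind_of_notMem _ _ hx, ind_of_notMem _ _ fun h => hx (mem_conj.2 h)]

theorem ind_cfConj {L : Subgroup G} (H : Subgroup G) {g : G} (hg : g ∈ L) (φ : G → ℂ) :
    ind L (H ^ᵍ g) (cfConj g φ) = ind L H φ := by
  have := cfConj_ind L H g φ
  rw [conj_eq_of_mem hg, cfConj_eq_self (ind_mem_CF L H φ) hg] at this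
  exact this.symm

theorem ind_cfConj_of_norm {L H : Subgroup G} {g : G} (hg : g ∈ L) (hg' : g ∈ 𝐍(H)) (φ : G → ℂ) :
    ind L H (cfConj g φ) = ind L H φ := by
  simpa only [conj_eq_of_mem_norm hg'] using ind_cfConj H hg φ

theorem cfConj_ind_of_norm {L H : Subgroup G} {g : G} (hg : g ∈ 𝐍(L)) (hg' : g ∈ 𝐍(H))
    (φ : G → ℂ) : cfConj g (ind L H φ) = ind L H (cfConj g φ) := by
  rw [cfConj_ind, conj_eq_of_mem_norm hg, conj_eq_of_mem_norm hg']

theorem ind_eq_of_mem_cfClass {L H : Subgroup G} (hL : L ≤ 𝐍(H)) {φ ψ : G → ℂ}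
    (h : ψ ∈ cfClass L φ) : ind L H ψ = ind L H φ := by
  obtain ⟨g, hg, rfl⟩ := mem_cfClass.1 h
  exact ind_cfConj_of_norm hg (hL hg) φ

/-- Induction from a normal subgroup. -/
theorem ind_normal_eq {L H : Subgroup G} (h : H ⊲ L) {φ : G → ℂ} (hφ : φ ∈ CF H) :
    ind L H φ = (H.relIndex (L ⊓ inertia φ) : ℂ) • ∑ ψ ∈ cfClass L φ, ψ := by
  rw [ind_eq_sum_cfConj, res_of_mem_CF hφ, res_eq_self, sum_fs_cfConj L φ (fun ψ => ψ),
    ← H1.card_mul_relIndex (le_inf h.1 (le_inertia hφ)), nsmul_eq_smul_C, smul_smul]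
  · congr 1
    push_cast
    field_simp [card_ne_zero_C H]
  · intro x hx
    rw [Finset.sum_apply]
    exact Finset.sum_eq_zero fun g hg =>
      CF_off (cfConj_mem_CF_of_norm hφ (h.2 (mem_fs.1 hg))) fun h' => hx (h.1 h')

theorem res_ind_normal {L H : Subgroup G} (h : L ≤ 𝐍(H)) (φ : G → ℂ) :
    res H (ind L H φ) = ind L H φ := res_eq_self (ind_mem_CFon_normal h φ).2

theorem ind_cf1_normal {L H : Subgroup G} (h : H ⊲ L) :
    ind L H (cf1 H) = (H.relIndex L : ℂ) • cf1 H := by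
  have h1 : cfClass L (cf1 H) = {cf1 H} := Finset.eq_singleton_iff_unique_mem.2
    ⟨self_mem_cfClass _ _, fun ψ hψ => by
      obtain ⟨g, hg, rfl⟩ := mem_cfClass.1 hψ
      exact cfConj_cf1_of_norm (h.2 hg)⟩
  rw [ind_normal_eq h (cf1_mem_CF H), h1, Finset.sum_singleton,
    inf_eq_left.2 (h.2.trans (norm_le_inertia_cf1 H))]

theorem ind_res_normal {L H : Subgroup G} (h : H ⊲ L) {ψ : G → ℂ} (hψ : ψ ∈ CF L) :
    ind L H (res H ψ) = (H.relIndex L : ℂ) • res H ψ := by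
  rw [ind_res H hψ, ind_cf1_normal h, smul_mul_assoc, cf1_mul_eq_res]

/-- For functions supported in a subgroup `H ≤ L`. -/
theorem ip_eq_ip_of_supp {L H : Subgroup G} (h : H ≤ L) {φ : G → ℂ} (hφ : ∀ x ∈ L, x ∉ H → φ x = 0)
    (ψ : G → ℂ) : (H.relIndex L : ℂ) * ip L φ ψ = ip H φ ψ := by
  rw [ip_eq_sum_of_supp (A := H) h hφ, ip_def, ← H1.card_mul_relIndex h]
  have h1 : (H.relIndex L : ℂ) ≠ 0 := by exact_mod_cast (index_ne_zero_of_finite : H.relIndex L ≠ 0)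
  push_cast
  field_simp [card_ne_zero_C H]

/-- PF (1.6)(a). -/
theorem le_cfKer_ind_iff {L H N : Subgroup G} (hH : H ≤ L) (hN : L ≤ 𝐍(N)) {θ : G → ℂ}
    (h : IsChar H θ) (h0 : θ ≠ 0) : N ≤ cfKer (ind L H θ) ↔ N ≤ cfKer θ := by
  have hθ := h.mem_CF
  constructor
  · intro h' x hx
    have e := apply_of_mem_cfKer (h' hx)
    have hxL : x ∈ L := by
      by_contra hx'
      rw [ind_of_notMem _ _ hx', ind_one hH, h.one_eq] at e
      have h1 : H.relIndex L ≠ 0 := index_ne_zero_of_finite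
      exact mul_ne_zero h1 (h.dg_pos h0).ne' (by exact_mod_cast e.symm)
    rw [ind_of_mem _ _ hxL, ind_of_mem _ _ L.one_mem, mul_right_inj' (inv_ne_zero (card_ne_zero_C H)),
      res_of_mem_CF hθ] at e
    have e1 := congrArg Complex.re e
    simp only [Complex.re_sum, mul_one, inv_mul_cancel, h.one_eq, Complex.natCast_re] at e1
    have e2 := (Finset.sum_eq_sum_iff_of_le fun g _ =>
      (Complex.re_le_norm _).trans (h.norm_le (g⁻¹ * x * g))).1 e1 1 (mem_fs.2 L.one_mem)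
    simp only [inv_one, one_mul, mul_one] at e2
    rw [h.mem_cfKer_iff, h.one_eq]
    have h3 : (θ x).re = ‖θ x‖ := le_antisymm (Complex.re_le_norm _) (e2 ▸ h.norm_le x)
    have h4 := Complex.re_eq_norm.1 h3
    exact Complex.ext (by simpa using e2) (by simpa using (Complex.le_def.1 h4).2.symm)
  · intro h' x hx y
    have hxL : x ∈ L := hH (cfKer_le hθ h0 (h' hx))
    by_cases hy : y ∈ L
    · rw [ind_of_mem _ _ hy, ind_of_mem _ _ (L.mul_mem hxL hy), res_of_mem_CF hθ]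
      congr 1
      refine sum_fs_congr fun g hg => ?_
      have : g⁻¹ * x * g ∈ N := by
        simpa using (mem_normalizer_iff.1 (hN (L.inv_mem hg)) x).1 hx
      rw [← h' this (g⁻¹ * y * g)]; congr 1; group
    · rw [ind_of_notMem _ _ hy, ind_of_notMem _ _ fun h => hy ((L.mul_mem_cancel_left hxL).1 h)]

theorem le_cfKer_ind_irr_iff {L H N : Subgroup G} (hH : H ≤ L) (hN : L ≤ 𝐍(N)) {θ : G → ℂ}
    (h : θ ∈ Irr H) : N ≤ cfKer (ind L H θ) ↔ N ≤ cfKer θ :=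
  le_cfKer_ind_iff hH hN (irr_isChar h) (irr_ne_zero h)

/-- Frobenius reciprocity for constituents. -/
theorem mem_constt_ind_iff {L H : Subgroup G} (hH : H ≤ L) {θ χ : G → ℂ} (hθ : θ ∈ Irr H)
    (hχ : χ ∈ Irr L) : χ ∈ constt L (ind L H θ) ↔ θ ∈ constt H (res H χ) := by
  rw [mem_constt, mem_constt, and_iff_right hχ, and_iff_right hθ,
    ip_ind_left hH _ (irr_mem_CF hχ), ip_res_left, Ne, Ne, ip_eq_zero_comm]

theorem exists_constt_res {L H : Subgroup G} (hH : H ≤ L) {χ : G → ℂ} (hχ : χ ∈ Irr L) :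
    ∃ θ, θ ∈ constt H (res H χ) :=
  constt_nonempty (res_mem_CF hH (irr_mem_CF hχ)) fun e =>
    irr_one_ne_zero hχ (by rw [← res_one H χ, e]; rfl)

theorem exists_constt_ind {L H : Subgroup G} (hH : H ≤ L) {θ : G → ℂ} (hθ : θ ∈ Irr H) :
    ∃ χ, χ ∈ constt L (ind L H θ) :=
  constt_nonempty (ind_mem_CF L H θ) (ind_irr_ne_zero hH hθ)

/-- Mackey's formula in the case `L = K H`. -/
theorem res_ind_of_mul {L K H : Subgroup G} (hK : K ≤ L) (hH : H ≤ L)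
    (hL : ∀ g ∈ L, ∃ k ∈ K, ∃ h ∈ H, g = k * h) {φ : G → ℂ} (hφ : φ ∈ CF H) :
    res K (ind L H φ) = ind K (K ⊓ H) φ := by
  classical
  refine CF_ext (res_mem_CF hK (ind_mem_CF _ _ _)) (ind_mem_CF _ _ _) fun x hx => ?_
  rw [res_of_mem _ hx, ind_of_mem _ _ hx, ind_of_mem _ _ (hK hx), res_of_mem_CF hφ]
  have h1 : ∑ k ∈ fs (K : Set G), res (K ⊓ H) φ (k⁻¹ * x * k) =
      ∑ k ∈ fs (K : Set G), φ (k⁻¹ * x * k) := sum_fs_congr fun k hk => by
    have hk' : k⁻¹ * x * k ∈ K := K.mul_mem (K.mul_mem (K.inv_mem hk) hx) hk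
    by_cases h : k⁻¹ * x * k ∈ H
    · exact res_of_mem _ ⟨hk', h⟩
    · rw [res_of_notMem _ fun h' => h (mem_inf.1 h').2, CF_off hφ h]
  have h2 : ∑ p ∈ fs (K : Set G) ×ˢ fs (H : Set G), φ ((p.1 * p.2)⁻¹ * x * (p.1 * p.2)) =
      Nat.card H • ∑ k ∈ fs (K : Set G), φ (k⁻¹ * x * k) := by
    rw [Finset.sum_product, Finset.smul_sum]
    refine sum_fs_congr fun k _ => ?_
    rw [← sum_fs_const]
    refine sum_fs_congr fun h hh => ?_
    rw [← CF_conj' hφ hh (k⁻¹ * x * k)]; congr 1; group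
  have h3 : ∑ p ∈ fs (K : Set G) ×ˢ fs (H : Set G), φ ((p.1 * p.2)⁻¹ * x * (p.1 * p.2)) =
      Nat.card (K ⊓ H : Subgroup G) • ∑ g ∈ fs (L : Set G), φ (g⁻¹ * x * g) := by
    rw [← Finset.sum_fiberwise_of_maps_to (t := fs (L : Set G)) (g := fun p => p.1 * p.2)
      (fun p hp => by
        rw [Finset.mem_product, mem_fs, mem_fs] at hp
        exact mem_fs.2 (L.mul_mem (hK hp.1) (hH hp.2))), Finset.smul_sum]
    refine sum_fs_congr fun g hg => ?_
    rw [Finset.sum_congr rfl fun p hp => by rw [(Finset.mem_filter.1 hp).2], Finset.sum_const,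
      ← card_fs_coe]
    congr 1
    obtain ⟨k, hk, h, hh, rfl⟩ := hL g hg
    symm
    refine Finset.card_nbij (fun d => (k * d, d⁻¹ * h)) (fun d hd => ?_)
      (fun _ _ _ _ e => mul_left_cancel (congrArg Prod.fst e)) fun p hp => ?_
    · simp only [Finset.mem_coe, mem_fs, SetLike.mem_coe, mem_inf] at hd
      simp only [Finset.mem_coe, Finset.mem_filter, Finset.mem_product, mem_fs, SetLike.mem_coe]
      exact ⟨⟨K.mul_mem hk hd.1, H.mul_mem (H.inv_mem hd.2) hh⟩, by group⟩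
    · simp only [Finset.mem_coe, Finset.mem_filter, Finset.mem_product, mem_fs,
        SetLike.mem_coe] at hp
      obtain ⟨⟨h1, h2⟩, h3⟩ := hp
      have e : k⁻¹ * p.1 = h * p.2⁻¹ := by
        calc k⁻¹ * p.1 = k⁻¹ * (p.1 * p.2) * p.2⁻¹ := by group
          _ = _ := by rw [h3]; group
      refine ⟨k⁻¹ * p.1, ?_, Prod.ext (by simp) (by simp only [e]; group)⟩
      simp only [Finset.mem_coe, mem_fs, SetLike.mem_coe, mem_inf]
      exact ⟨K.mul_mem (K.inv_mem hk) h1, e ▸ H.mul_mem hh (H.inv_mem h2)⟩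
  rw [h1]
  have h4 := h2.symm.trans h3
  rw [nsmul_eq_mul, nsmul_eq_mul] at h4
  have := card_ne_zero_C H
  have := card_ne_zero_C (K ⊓ H)
  field_simp
  linear_combination -h4

/-! ### Induction from a TI-subset -/

theorem NormedTI.ind_apply {A : Set G} {X L : Subgroup G} (h : NormedTI A X L) {φ : G → ℂ}
    (hφ : φ ∈ CFon L A) {a : G} (ha : a ∈ A) : ind X L φ a = φ a := by
  rw [ind_of_mem _ _ (h.le (h.subset ha)), res_of_mem_CF hφ.1,
    ← sum_fs_subset (A := L) h.le fun x hx hx' => hφ.2 _ fun h' =>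
      hx' (by simpa using L.inv_mem (h.ti x⁻¹ (X.inv_mem hx) a ha (by simpa using h'))),
    sum_fs_congr (g := fun _ => φ a) fun x hx => CF_conj' hφ.1 hx a, sum_fs_const, nsmul_eq_mul]
  field_simp [card_ne_zero_C L]

theorem NormedTI.ip_ind {A : Set G} {X L : Subgroup G} (h : NormedTI A X L) {φ ψ : G → ℂ}
    (hφ : φ ∈ CFon L A) (hψ : ψ ∈ CFon L A) : ip X (ind X L φ) (ind X L ψ) = ip L φ ψ := by
  rw [ip_ind_left h.le _ (ind_mem_CF _ _ _)]
  exact ip_congr_of_supp (fun x _ hx => hφ.2 x hx) fun x hx => h.ind_apply hψ hx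

/-! ### The sets `irrKer`, `irrKerD`, `seqIndD`, `seqIndT` -/

theorem mem_irrKer {K N : Subgroup G} {θ : G → ℂ} : θ ∈ irrKer K N ↔ θ ∈ Irr K ∧ N ≤ cfKer θ := by
  classical
  unfold irrKer; exact Finset.mem_filter

theorem mem_irrKerD {K H M : Subgroup G} {θ : G → ℂ} :
    θ ∈ irrKerD K H M ↔ θ ∈ Irr K ∧ M ≤ cfKer θ ∧ ¬ H ≤ cfKer θ := by
  classical
  unfold irrKerD; exact Finset.mem_filter

theorem mem_seqIndD {K L H M : Subgroup G} {φ : G → ℂ} :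
    φ ∈ seqIndD K L H M ↔ ∃ θ ∈ irrKerD K H M, ind L K θ = φ := by
  unfold seqIndD; exact Finset.mem_image

theorem mem_seqIndT {K L : Subgroup G} {φ : G → ℂ} :
    φ ∈ seqIndT K L ↔ ∃ θ ∈ Irr K, ind L K θ = φ := by
  unfold seqIndT; exact Finset.mem_image

theorem irrKer_subset (K N : Subgroup G) : irrKer K N ⊆ Irr K := fun _ h => (mem_irrKer.1 h).1

theorem irrKerD_subset (K H M : Subgroup G) : irrKerD K H M ⊆ Irr K :=
  fun _ h => (mem_irrKerD.1 h).1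

theorem irrKer_bot (K : Subgroup G) : irrKer K ⊥ = Irr K := by
  ext θ; simp [mem_irrKer]

theorem irrKer_self (K : Subgroup G) : irrKer K K = {cf1 K} := by
  ext θ
  rw [mem_irrKer, Finset.mem_singleton]
  exact ⟨fun h => (irr_eq_cf1_iff h.1).2 h.2, fun h => h ▸ ⟨cf1_mem_Irr K, le_cfKer_cf1 K⟩⟩

theorem cf1_mem_irrKer {K N : Subgroup G} (h : N ≤ K) : cf1 K ∈ irrKer K N :=
  mem_irrKer.2 ⟨cf1_mem_Irr K, h.trans (le_cfKer_cf1 K)⟩

theorem irrKer_anti (K : Subgroup G) {N N' : Subgroup G} (h : N ≤ N') : irrKer K N' ⊆ irrKer K N :=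
  fun _ hθ => mem_irrKer.2 ⟨(mem_irrKer.1 hθ).1, h.trans (mem_irrKer.1 hθ).2⟩

theorem irrKerD_eq_sdiff (K H M : Subgroup G) : irrKerD K H M = irrKer K M \ irrKer K H := by
  ext θ
  simp only [mem_irrKerD, Finset.mem_sdiff, mem_irrKer]; tauto

theorem irrKerD_mono (K : Subgroup G) {H H' M M' : Subgroup G} (hH : H ≤ H') (hM : M' ≤ M) :
    irrKerD K H M ⊆ irrKerD K H' M' := fun _ hθ => by
  rw [mem_irrKerD] at hθ ⊢
  exact ⟨hθ.1, hM.trans hθ.2.1, fun h => hθ.2.2 (hH.trans h)⟩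

theorem seqIndD_mono (K L : Subgroup G) {H H' M M' : Subgroup G} (hH : H ≤ H') (hM : M' ≤ M) :
    seqIndD K L H M ⊆ seqIndD K L H' M' := Finset.image_subset_image (irrKerD_mono K hH hM)

theorem seqIndD_subset_T (K L H M : Subgroup G) : seqIndD K L H M ⊆ seqIndT K L :=
  Finset.image_subset_image (irrKerD_subset K H M)

theorem cfAut_mem_irrKer {K N : Subgroup G} {θ : G → ℂ} (u : ℂ →+* ℂ) (h : θ ∈ irrKer K N) :
    cfAut u θ ∈ irrKer K N := by
  rw [mem_irrKer] at h ⊢; rw [cfKer_cfAut]; exact ⟨cfAut_mem_Irr u h.1, h.2⟩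

theorem star_mem_irrKer {K N : Subgroup G} {θ : G → ℂ} (h : θ ∈ irrKer K N) :
    star θ ∈ irrKer K N := cfAut_mem_irrKer (starRingEnd ℂ) h

theorem cfAut_mem_irrKerD {K H M : Subgroup G} {θ : G → ℂ} (u : ℂ →+* ℂ) (h : θ ∈ irrKerD K H M) :
    cfAut u θ ∈ irrKerD K H M := by
  rw [mem_irrKerD] at h ⊢; rw [cfKer_cfAut]; exact ⟨cfAut_mem_Irr u h.1, h.2⟩

theorem cfAut_mem_seqIndD {K L H M : Subgroup G} {φ : G → ℂ} (u : ℂ →+* ℂ)
    (h : φ ∈ seqIndD K L H M) : cfAut u φ ∈ seqIndD K L H M := by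
  obtain ⟨θ, hθ, rfl⟩ := mem_seqIndD.1 h
  exact mem_seqIndD.2 ⟨_, cfAut_mem_irrKerD u hθ, ind_cfAut L K u θ⟩

theorem star_mem_seqIndD {K L H M : Subgroup G} {φ : G → ℂ} (h : φ ∈ seqIndD K L H M) :
    star φ ∈ seqIndD K L H M := cfAut_mem_seqIndD (starRingEnd ℂ) h

theorem cfAut_mem_seqIndT {K L : Subgroup G} {φ : G → ℂ} (u : ℂ →+* ℂ)
    (h : φ ∈ seqIndT K L) : cfAut u φ ∈ seqIndT K L := by
  obtain ⟨θ, hθ, rfl⟩ := mem_seqIndT.1 h
  exact mem_seqIndT.2 ⟨_, cfAut_mem_Irr u hθ, ind_cfAut L K u θ⟩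

theorem star_mem_seqIndT {K L : Subgroup G} {φ : G → ℂ} (h : φ ∈ seqIndT K L) :
    star φ ∈ seqIndT K L := cfAut_mem_seqIndT (starRingEnd ℂ) h

theorem cfConj_mem_irrKer {K N : Subgroup G} {θ : G → ℂ} (h : θ ∈ irrKer K N) {g : G}
    (hK : g ∈ 𝐍(K)) (hN : g ∈ 𝐍(N)) : cfConj g θ ∈ irrKer K N := by
  rw [mem_irrKer] at h ⊢; rw [le_cfKer_cfConj_iff hN]; exact ⟨cfConj_mem_Irr_of_norm h.1 hK, h.2⟩

theorem cfConj_mem_irrKerD {K H M : Subgroup G} {θ : G → ℂ} (h : θ ∈ irrKerD K H M) {g : G}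
    (hK : g ∈ 𝐍(K)) (hH : g ∈ 𝐍(H)) (hM : g ∈ 𝐍(M)) : cfConj g θ ∈ irrKerD K H M := by
  rw [mem_irrKerD] at h ⊢
  rw [le_cfKer_cfConj_iff hH, le_cfKer_cfConj_iff hM]
  exact ⟨cfConj_mem_Irr_of_norm h.1 hK, h.2⟩

theorem conjSub_seqIndD (K L : Subgroup G) {H H' M M' : Subgroup G} (hH : H ≤ H') (hM : M' ≤ M) :
    ConjSub (seqIndD K L H M) (seqIndD K L H' M') :=
  ⟨seqIndD_mono K L hH hM, fun _ => star_mem_seqIndD⟩

theorem cycσ_comm (X W₁ W₂ : Subgroup G) : cycσ X W₁ W₂ = cycσ X W₂ W₁ := by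
  rw [cycσ, cycσ, sup_comm, hatSet_comm]

end Cfsg.Agent.FT
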