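/-
Character base library, part 4: inflation, characters of quotients, semidirect and direct products.
-/
import Cfsg.Agent.FT.C.Ind

set_option autoImplicit false

namespace Cfsg.Agent.FT

open Subgroup Cfsg Cfsg.Agent
open scoped ComplexConjugate

universe u

variable {G : Type u} [Group G]

section pull

variable {Q : Type*} [Group Q] {Y : Subgroup G} {f : Y →* Q}

/-- `K ≤ Y` is the full preimage under `f` of its image `Kb`. -/
structure PullPair (Y : Subgroup G) (f : Y →* Q) (K : Subgroup G) (Kb : Subgroup Q) : Prop where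
  le : K ≤ Y
  mem_iff : ∀ y : Y, (y : G) ∈ K ↔ f y ∈ Kb
  surj : ∀ z ∈ Kb, ∃ y : Y, f y = z

theorem pullPair_bar {Y N K : Subgroup G} [(N.subgroupOf Y).Normal] (hN : N ≤ K) (hK : K ≤ Y) :
    PullPair Y (H1.qmk Y N) K (H1.bar Y N K) :=
  ⟨hK, fun y => by rw [H1.qmk_mem_bar_iff (hN.trans hK) hK, sup_eq_left.2 hN],
    fun z _ => H1.qmk_surjective z⟩

theorem pullPair_bar_bot {Y N : Subgroup G} [(N.subgroupOf Y).Normal] (hN : N ≤ Y) :
    PullPair Y (H1.qmk Y N) N ⊥ := by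
  simpa only [H1.bar_self] using pullPair_bar (le_refl N) hN

theorem pullPair_bar_top {Y N : Subgroup G} [(N.subgroupOf Y).Normal] (hN : N ≤ Y) :
    PullPair Y (H1.qmk Y N) Y ⊤ := by
  simpa only [H1.bar_top] using pullPair_bar hN (le_refl Y)

theorem pullPair_unbar {Y N : Subgroup G} [(N.subgroupOf Y).Normal]
    (K : Subgroup (Y ⧸ N.subgroupOf Y)) : PullPair Y (H1.qmk Y N) (H1.unbar Y N K) K :=
  ⟨H1.unbar_le K, fun _ => H1.coe_mem_unbar, fun z _ => H1.qmk_surjective z⟩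

/-- Passing to a subgroup seen as a group. -/
theorem pullPair_subgroupOf {Y K : Subgroup G} (hK : K ≤ Y) :
    PullPair Y (MonoidHom.id Y) K (K.subgroupOf Y) :=
  ⟨hK, fun _ => Iff.rfl, fun z _ => ⟨z, rfl⟩⟩

theorem PullPair.exists_mem {K : Subgroup G} {Kb : Subgroup Q} (h : PullPair Y f K Kb) {z : Q}
    (hz : z ∈ Kb) : ∃ y : Y, (y : G) ∈ K ∧ f y = z := by
  obtain ⟨y, rfl⟩ := h.surj z hz
  exact ⟨y, (h.mem_iff y).2 hz, rfl⟩

theorem PullPair.le_iff {K L : Subgroup G} {Kb Lb : Subgroup Q} (h : PullPair Y f K Kb)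
    (h' : PullPair Y f L Lb) : K ≤ L ↔ Kb ≤ Lb :=
  ⟨fun e z hz => by
    obtain ⟨y, hy, rfl⟩ := h.exists_mem hz
    exact (h'.mem_iff y).1 (e hy),
  fun e x hx => (h'.mem_iff ⟨x, h.le hx⟩).2 (e ((h.mem_iff ⟨x, h.le hx⟩).1 hx))⟩

/-- The restriction of `f` to `K → Kb`. -/
def PullPair.hom {K : Subgroup G} {Kb : Subgroup Q} (h : PullPair Y f K Kb) : K →* Kb :=
  (f.comp (inclusion h.le)).codRestrict Kb fun x => (h.mem_iff ⟨x, h.le x.2⟩).1 x.2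

theorem PullPair.hom_surjective {K : Subgroup G} {Kb : Subgroup Q} (h : PullPair Y f K Kb) :
    Function.Surjective h.hom := fun z => by
  obtain ⟨y, hy, e⟩ := h.exists_mem z.2
  exact ⟨⟨y, hy⟩, Subtype.ext e⟩

theorem cfPull_of_mem (ψ : Q → ℂ) {x : G} (hx : x ∈ Y) : cfPull Y f ψ x = ψ (f ⟨x, hx⟩) := by
  unfold cfPull; exact dif_pos hx

theorem cfPull_of_notMem (ψ : Q → ℂ) {x : G} (hx : x ∉ Y) : cfPull Y f ψ x = 0 := by
  unfold cfPull; exact dif_neg hx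

@[simp] theorem cfPull_coe (ψ : Q → ℂ) (y : Y) : cfPull Y f ψ y = ψ (f y) := cfPull_of_mem ψ y.2

@[simp] theorem cfPull_one (ψ : Q → ℂ) : cfPull Y f ψ 1 = ψ 1 := by
  rw [← f.map_one]; exact cfPull_coe ψ 1

@[simp] theorem dg_cfPull (ψ : Q → ℂ) : dg (cfPull Y f ψ) = dg ψ := by rw [dg, dg, cfPull_one]

theorem cfPull_ext {φ : G → ℂ} {ψ : Q → ℂ} (h0 : ∀ x, x ∉ Y → φ x = 0)
    (h : ∀ y : Y, ψ (f y) = φ y) : cfPull Y f ψ = φ := by
  funext x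
  by_cases hx : x ∈ Y
  · rw [cfPull_of_mem ψ hx]; exact h ⟨x, hx⟩
  · rw [cfPull_of_notMem ψ hx, h0 x hx]

theorem cfPull_mul (φ ψ : Q → ℂ) : cfPull Y f (φ * ψ) = cfPull Y f φ * cfPull Y f ψ :=
  cfPull_ext (fun x hx => by simp [cfPull_of_notMem _ hx]) fun y => by simp

theorem cfPull_cfAut (u : ℂ →+* ℂ) (ψ : Q → ℂ) :
    cfPull Y f (cfAut u ψ) = cfAut u (cfPull Y f ψ) :=
  cfPull_ext (fun x hx => by simp [cfPull_of_notMem _ hx]) fun y => by simp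

theorem cfPull_star (ψ : Q → ℂ) : cfPull Y f (star ψ) = star (cfPull Y f ψ) :=
  cfPull_cfAut (starRingEnd ℂ) ψ

theorem cfPull_cfConj (y : Y) (ψ : Q → ℂ) :
    cfPull Y f (cfConj (f y) ψ) = cfConj (y : G) (cfPull Y f ψ) :=
  cfPull_ext (fun x hx => cfPull_of_notMem _ fun h => hx (by
      simpa [mul_assoc] using Y.mul_mem (Y.mul_mem y.2 h) (Y.inv_mem y.2))) fun z => by
    rw [cfConj_apply, cfConj_apply, ← map_inv, ← map_mul, ← map_mul, ← cfPull_coe (f := f) ψ]; rfl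

namespace PullPair

variable {K L N : Subgroup G} {Kb Lb : Subgroup Q}

theorem pull_res (h : PullPair Y f K Kb) (ψ : Q → ℂ) :
    cfPull Y f (res Kb ψ) = res K (cfPull Y f ψ) :=
  cfPull_ext (fun _ hx => res_of_notMem _ fun h' => hx (h.le h')) fun y => by
    by_cases hy : (y : G) ∈ K
    · rw [res_of_mem _ hy, res_of_mem _ ((h.mem_iff y).1 hy), cfPull_coe]
    · rw [res_of_notMem _ hy, res_of_notMem _ fun h' => hy ((h.mem_iff y).2 h')]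

theorem pull_off (h : PullPair Y f K Kb) {ψ : Q → ℂ} (hψ : ∀ z, z ∉ Kb → ψ z = 0) (x : G)
    (hx : x ∉ K) : cfPull Y f ψ x = 0 := by
  rw [← res_eq_self hψ, h.pull_res, res_of_notMem _ hx]

theorem pull_cf1 (h : PullPair Y f K Kb) : cfPull Y f (cf1 Kb) = cf1 K :=
  cfPull_ext (fun _ hx => cf1_of_notMem fun h' => hx (h.le h')) fun y => by
    by_cases hy : (y : G) ∈ K
    · rw [cf1_of_mem hy, cf1_of_mem ((h.mem_iff y).1 hy)]
    · rw [cf1_of_notMem hy, cf1_of_notMem fun h' => hy ((h.mem_iff y).2 h')]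

theorem pull_mem_CF (h : PullPair Y f K Kb) {ψ : Q → ℂ} (hψ : ψ ∈ CF Kb) : cfPull Y f ψ ∈ CF K :=
  ⟨h.pull_off hψ.1, fun g hg x => by
    have := cfPull_cfConj (f := f) ⟨g, h.le hg⟩ ψ
    rw [cfConj_eq_self hψ ((h.mem_iff ⟨g, h.le hg⟩).1 hg)] at this
    conv_lhs => rw [this]
    exact cfConj_apply_conj g _ x⟩

theorem isChar_pull (h : PullPair Y f K Kb) {ψ : Q → ℂ} (hψ : IsChar Kb ψ) :
    IsChar K (cfPull Y f ψ) :=
  ⟨h.pull_off hψ.1, by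
    have := hψ.2.comp h.hom
    convert this using 2 with x
    exact cfPull_of_mem ψ (h.le x.2)⟩

theorem isLin_pull (h : PullPair Y f K Kb) {ψ : Q → ℂ} (hψ : IsLin Kb ψ) :
    IsLin K (cfPull Y f ψ) :=
  ⟨h.pull_off hψ.1, by simp [hψ.2.1], fun x hx y hy => by
    rw [cfPull_of_mem _ (h.le hx), cfPull_of_mem _ (h.le hy), cfPull_of_mem _ (h.le (K.mul_mem hx hy)),
      ← hψ.2.2 _ ((h.mem_iff ⟨x, h.le hx⟩).1 hx) _ ((h.mem_iff ⟨y, h.le hy⟩).1 hy), ← map_mul]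
    rfl⟩

theorem pull_injOn (h : PullPair Y f K Kb) {φ ψ : Q → ℂ} (hφ : ∀ z, z ∉ Kb → φ z = 0)
    (hψ : ∀ z, z ∉ Kb → ψ z = 0) (e : cfPull Y f φ = cfPull Y f ψ) : φ = ψ := by
  funext z
  by_cases hz : z ∈ Kb
  · obtain ⟨y, rfl⟩ := h.surj z hz
    simpa using congrFun e y
  · rw [hφ z hz, hψ z hz]

theorem le_cfKer_pull (h : PullPair Y f K Kb) {ψ : Q → ℂ} (hψ : Kb ≤ cfKer ψ) :
    K ≤ cfKer (cfPull Y f ψ) := fun x hx y => by
  by_cases hy : y ∈ Y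
  · rw [cfPull_of_mem _ hy, cfPull_of_mem _ (Y.mul_mem (h.le hx) hy),
      ← hψ ((h.mem_iff ⟨x, h.le hx⟩).1 hx) (f ⟨y, hy⟩), ← map_mul]
    rfl
  · rw [cfPull_of_notMem _ hy, cfPull_of_notMem _ fun h' =>
      hy ((Y.mul_mem_cancel_left (h.le hx)).1 h')]

theorem ker_le_cfKer_pull (h : PullPair Y f N ⊥) (ψ : Q → ℂ) : N ≤ cfKer (cfPull Y f ψ) :=
  h.le_cfKer_pull bot_le

theorem le_cfKer_pull_iff (h : PullPair Y f K Kb) (h' : PullPair Y f L Lb) (hK : K ≤ L)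
    {ψ : Q → ℂ} (hψ : ∀ z, z ∉ Lb → ψ z = 0) : K ≤ cfKer (cfPull Y f ψ) ↔ Kb ≤ cfKer ψ := by
  refine ⟨fun e z hz w => ?_, h.le_cfKer_pull⟩
  have hz' := (h.le_iff h').1 hK hz
  by_cases hw : w ∈ Lb
  · obtain ⟨y, hy, rfl⟩ := h.exists_mem hz
    obtain ⟨v, rfl⟩ := h'.surj w hw
    have := e hy v
    rwa [cfPull_coe, ← coe_mul, cfPull_coe, map_mul] at this
  · rw [hψ w hw, hψ _ fun h => hw ((Lb.mul_mem_cancel_left hz').1 h)]

theorem mem_inertia_pull_iff (h : PullPair Y f K Kb) {ψ : Q → ℂ} (hψ : ψ ∈ CF Kb) {y : Y}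
    (hy : f y ∈ 𝐍(Kb)) : (y : G) ∈ inertia (cfPull Y f ψ) ↔ f y ∈ inertia ψ := by
  rw [mem_inertia, mem_inertia, ← cfPull_cfConj]
  exact ⟨h.pull_injOn (cfConj_mem_CF_of_norm hψ hy).1 hψ.1, fun e => by rw [e]⟩

theorem exists_pull (h : PullPair Y f K Kb) (hN : PullPair Y f N ⊥) {φ : G → ℂ} (hφ : φ ∈ CF K)
    (hk : N ≤ cfKer φ) : ∃ ψ ∈ CF Kb, cfPull Y f ψ = φ := by
  classical
  have key : ∀ y z : Y, f y = f z → φ y = φ z := fun y z e => by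
    have : ((y * z⁻¹ : Y) : G) ∈ N := (hN.mem_iff _).2 (by simp [e])
    rw [← hk this z]; congr 1; simp
  let ψ : Q → ℂ := fun z => if hz : ∃ y : Y, f y = z then φ hz.choose else 0
  have h1 : ∀ y : Y, ψ (f y) = φ y := fun y => by
    have hz : ∃ y' : Y, f y' = f y := ⟨y, rfl⟩
    simp only [ψ, dif_pos hz]
    exact key _ _ hz.choose_spec
  refine ⟨ψ, mem_CF_of (fun z hz => ?_) fun g hg z hz => ?_,
    cfPull_ext (fun x hx => CF_off hφ fun h' => hx (h.le h')) h1⟩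
  · by_cases hz' : ∃ y : Y, f y = z
    · obtain ⟨y, rfl⟩ := hz'
      rw [h1, CF_off hφ fun h' => hz ((h.mem_iff y).1 h')]
    · exact dif_neg hz'
  · obtain ⟨y, hy, rfl⟩ := h.exists_mem hg
    obtain ⟨v, rfl⟩ := h.surj z hz
    rw [← map_inv, ← map_mul, ← map_mul, h1, h1]
    exact CF_conj hφ hy v

variable [Finite G] [Finite Q]

theorem card_eq (h : PullPair Y f K Kb) (hN : PullPair Y f N ⊥) :
    Nat.card K = Nat.card N * Nat.card Kb := by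
  have hNK : N ≤ K := (hN.le_iff h).2 bot_le
  have h1 : h.hom.ker = N.subgroupOf K := by
    ext x
    rw [MonoidHom.mem_ker, mem_subgroupOf, hN.mem_iff ⟨x, h.le x.2⟩, mem_bot, Subtype.ext_iff]; rfl
  rw [← H1.card_mul_relIndex hNK, relIndex, ← h1, index_ker,
    MonoidHom.range_eq_top.2 h.hom_surjective, card_top]

omit [Finite G] [Finite Q] in
theorem exists_ker (Y : Subgroup G) (f : Y →* Q) : PullPair Y f (f.ker.map Y.subtype) ⊥ :=
  ⟨map_subtype_le _, fun y => by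
    rw [mem_bot, ← MonoidHom.mem_ker]; exact mem_map_iff_mem Y.subtype_injective,
    fun z hz => ⟨1, by rw [mem_bot.1 hz, map_one]⟩⟩

theorem relIndex_eq (h : PullPair Y f K Kb) (h' : PullPair Y f L Lb) (hK : K ≤ L) :
    K.relIndex L = Kb.relIndex Lb := by
  have h1 := h.card_eq (exists_ker Y f)
  have h2 := h'.card_eq (exists_ker Y f)
  rw [← H1.card_mul_relIndex hK, ← H1.card_mul_relIndex ((h.le_iff h').1 hK), h1, mul_assoc] at h2
  exact Nat.eq_of_mul_eq_mul_left Nat.card_pos (Nat.eq_of_mul_eq_mul_left Nat.card_pos h2)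

theorem sum_pull {M : Type*} [AddCommMonoid M] (h : PullPair Y f K Kb) (hN : PullPair Y f N ⊥)
    (F : G → M) (F' : Q → M) (hF : ∀ y : Y, (y : G) ∈ K → F y = F' (f y)) :
    ∑ x ∈ fs (K : Set G), F x = Nat.card N • ∑ z ∈ fs (Kb : Set Q), F' z := by
  classical
  let p : G → Q := fun x => if hx : x ∈ Y then f ⟨x, hx⟩ else 1
  have hp : ∀ y : Y, p y = f y := fun y => dif_pos y.2
  rw [← Finset.sum_fiberwise_of_maps_to (t := fs (Kb : Set Q)) (g := p) (fun x hx => by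
    rw [mem_fs] at hx ⊢
    rw [hp ⟨x, h.le hx⟩]; exact (h.mem_iff _).1 hx), Finset.smul_sum]
  refine sum_fs_congr fun z hz => ?_
  rw [Finset.sum_congr rfl (g := fun _ => F' z) fun x hx => by
    obtain ⟨hx, e⟩ := Finset.mem_filter.1 hx
    rw [mem_fs] at hx
    rw [← e, hp ⟨x, h.le hx⟩]; exact hF ⟨x, h.le hx⟩ hx, Finset.sum_const, ← card_fs_coe]
  congr 1
  obtain ⟨y, hy, rfl⟩ := h.exists_mem hz
  have hNK : N ≤ K := (hN.le_iff h).2 bot_le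
  symm
  refine Finset.card_nbij (fun n => n * y) (fun n hn => ?_) (fun _ _ _ _ e => mul_right_cancel e)
    fun x hx => ?_
  · simp only [Finset.mem_coe, mem_fs, SetLike.mem_coe] at hn
    simp only [Finset.mem_coe, Finset.mem_filter, mem_fs, SetLike.mem_coe]
    refine ⟨K.mul_mem (hNK hn) hy, ?_⟩
    have := hp (⟨n, hN.le hn⟩ * y)
    rw [map_mul, mem_bot.1 ((hN.mem_iff ⟨n, hN.le hn⟩).1 hn), one_mul] at this
    exact this
  · simp only [Finset.mem_coe, Finset.mem_filter, mem_fs, SetLike.mem_coe] at hx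
    refine ⟨x * (y : G)⁻¹, ?_, by simp⟩
    simp only [Finset.mem_coe, mem_fs, SetLike.mem_coe]
    refine (hN.mem_iff (⟨x, h.le hx.1⟩ * y⁻¹)).2 ?_
    rw [map_mul, ← hp ⟨x, h.le hx.1⟩, hx.2, mem_bot, map_inv, mul_inv_cancel]

theorem ip_pull (h : PullPair Y f K Kb) (φ ψ : Q → ℂ) :
    ip K (cfPull Y f φ) (cfPull Y f ψ) = ip Kb φ ψ := by
  rw [ip_def, ip_def, h.sum_pull (exists_ker Y f) _ (fun z => φ z * conj (ψ z)) fun y _ => by simp,
    h.card_eq (exists_ker Y f), nsmul_eq_mul]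
  have := card_ne_zero_C (f.ker.map Y.subtype)
  push_cast
  field_simp

theorem nsq_pull (h : PullPair Y f K Kb) (φ : Q → ℂ) : nsq K (cfPull Y f φ) = nsq Kb φ := by
  rw [nsq_eq_re, nsq_eq_re, h.ip_pull]

theorem pull_mem_Irr (h : PullPair Y f K Kb) {ψ : Q → ℂ} (hψ : ψ ∈ Irr Kb) :
    cfPull Y f ψ ∈ Irr K := by
  rw [(h.isChar_pull (irr_isChar hψ)).mem_Irr_iff, h.nsq_pull, nsq_irr hψ]

theorem pull_mem_Irr_iff (h : PullPair Y f K Kb) {ψ : Q → ℂ} (hψ : IsChar Kb ψ) :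
    cfPull Y f ψ ∈ Irr K ↔ ψ ∈ Irr Kb := by
  rw [(h.isChar_pull hψ).mem_Irr_iff, h.nsq_pull, hψ.mem_Irr_iff]

theorem vchar_pull (h : PullPair Y f K Kb) {ψ : Q → ℂ} (hψ : ψ ∈ VChar Kb) :
    cfPull Y f ψ ∈ VChar K := by
  obtain ⟨a, b, ha, hb, rfl⟩ := vchar_eq_sub hψ
  rw [map_sub]
  exact sub_mem (h.isChar_pull ha).mem_VChar (h.isChar_pull hb).mem_VChar

theorem pull_mem_irrKer (h : PullPair Y f K Kb) (hN : PullPair Y f N ⊥) {ψ : Q → ℂ}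
    (hψ : ψ ∈ Irr Kb) : cfPull Y f ψ ∈ irrKer K N :=
  mem_irrKer.2 ⟨h.pull_mem_Irr hψ, hN.ker_le_cfKer_pull ψ⟩

theorem exists_pull_irr (h : PullPair Y f K Kb) (hN : PullPair Y f N ⊥) {χ : G → ℂ}
    (hχ : χ ∈ irrKer K N) : ∃ ψ ∈ Irr Kb, cfPull Y f ψ = χ := by
  obtain ⟨hχ, hk⟩ := mem_irrKer.1 hχ
  obtain ⟨ψ, hψ, e⟩ := h.exists_pull hN (irr_mem_CF hχ) hk
  obtain ⟨θ, hθ⟩ := constt_nonempty hψ (by rintro rfl; exact irr_ne_zero hχ (by rw [← e, map_zero]))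
  obtain ⟨hθ, h0⟩ := mem_constt.1 hθ
  rw [← h.ip_pull, e] at h0
  exact ⟨θ, hθ, (irr_eq_of_ip_ne_zero hχ (h.pull_mem_Irr hθ) h0).symm⟩

theorem exists_pull_char (h : PullPair Y f K Kb) (hN : PullPair Y f N ⊥) {χ : G → ℂ}
    (hχ : IsChar K χ) (hk : N ≤ cfKer χ) : ∃ ψ, IsChar Kb ψ ∧ cfPull Y f ψ = χ := by
  obtain ⟨ψ, hψ, e⟩ := h.exists_pull hN hχ.mem_CF hk
  refine ⟨ψ, isChar_of_ip_nat hψ fun θ hθ => ?_, e⟩
  rw [← h.ip_pull, e]
  exact hχ.ip_nat (h.isChar_pull (irr_isChar hθ))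

theorem sum_irrKer {M : Type*} [AddCommMonoid M] (h : PullPair Y f K Kb) (hN : PullPair Y f N ⊥)
    (F : (G → ℂ) → M) : ∑ χ ∈ irrKer K N, F χ = ∑ ψ ∈ Irr Kb, F (cfPull Y f ψ) := by
  symm
  exact Finset.sum_bij (fun ψ _ => cfPull Y f ψ) (fun ψ hψ => h.pull_mem_irrKer hN hψ)
    (fun ψ hψ ψ' hψ' e => h.pull_injOn (irr_mem_CF hψ).1 (irr_mem_CF hψ').1 e)
    (fun χ hχ => by
      obtain ⟨ψ, hψ, e⟩ := h.exists_pull_irr hN hχ
      exact ⟨ψ, hψ, e⟩) fun _ _ => rfl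

theorem card_irrKer (h : PullPair Y f K Kb) (hN : PullPair Y f N ⊥) :
    (irrKer K N).card = (Irr Kb).card := by
  rw [Finset.card_eq_sum_ones, h.sum_irrKer hN, Finset.card_eq_sum_ones]

/-- PF (1.6)(b). -/
theorem pull_ind (h : PullPair Y f K Kb) (h' : PullPair Y f L Lb) (ψ : Q → ℂ) :
    cfPull Y f (ind Lb Kb ψ) = ind L K (cfPull Y f ψ) := by
  refine CF_ext (h'.pull_mem_CF (ind_mem_CF _ _ _)) (ind_mem_CF _ _ _) fun x hx => ?_
  have hN := exists_ker Y f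
  rw [cfPull_of_mem _ (h'.le hx), ind_of_mem _ _ hx,
    ind_of_mem _ _ ((h'.mem_iff ⟨x, h'.le hx⟩).1 hx), ← h.pull_res,
    h'.sum_pull hN _ (fun z => res Kb ψ (z⁻¹ * f ⟨x, h'.le hx⟩ * z)) fun y _ => by
      rw [← map_inv, ← map_mul, ← map_mul, ← cfPull_coe (f := f) (res Kb ψ)]; rfl,
    h.card_eq hN, nsmul_eq_mul]
  have := card_ne_zero_C (f.ker.map Y.subtype)
  push_cast
  field_simp

end PullPair

end pull

variable [Finite G]

theorem sum_irrKer_dg_sq {K N : Subgroup G} (h : N ⊲ K) :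
    ∑ χ ∈ irrKer K N, dg χ ^ 2 = N.relIndex K := by
  have := H1.normal_subgroupOf_of_le h.2
  rw [(pullPair_bar_top h.1).sum_irrKer (pullPair_bar_bot h.1)]
  simp only [dg_cfPull]
  rw [sum_irr_dg_sq, card_top]; rfl

theorem sum_irrKerD_dg_sq {K H M : Subgroup G} (hH : H ⊲ K) (hM : K ≤ 𝐍(M)) (hMH : M ≤ H) :
    ∑ χ ∈ irrKerD K H M, dg χ ^ 2 + H.relIndex K = H.relIndex K * M.relIndex H := by
  have h1 : irrKerD K H M = irrKer K M \ irrKer K H := irrKerD_eq_sdiff K H M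
  rw [← sum_irrKer_dg_sq hH, h1, Finset.sum_sdiff (irrKer_anti K hMH),
    sum_irrKer_dg_sq ⟨hMH.trans hH.1, hM⟩, sum_irrKer_dg_sq hH, mul_comm,
    relIndex_mul_relIndex M H K hMH hH.1]

theorem isLin_of_der_le_cfKer {K : Subgroup G} {χ : G → ℂ} (hχ : χ ∈ Irr K)
    (h : ⁅K, K⁆ ≤ cfKer χ) : IsLin K χ := by
  have hn := der_normal K
  have := H1.normal_subgroupOf_of_le hn.2
  obtain ⟨ψ, hψ, rfl⟩ := (pullPair_bar hn.1 le_rfl).exists_pull_irr (pullPair_bar_bot hn.1)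
    (mem_irrKer.2 ⟨hχ, h⟩)
  exact (pullPair_bar hn.1 le_rfl).isLin_pull
    (isLin_of_comm ((H1.isMulCommutative_bar_iff le_rfl).2 le_rfl) hψ)

theorem isLin_of_mem_irrKer {K N : Subgroup G} (hN : ⁅K, K⁆ ≤ N) {χ : G → ℂ}
    (hχ : χ ∈ irrKer K N) : IsLin K χ :=
  isLin_of_der_le_cfKer (mem_irrKer.1 hχ).1 (hN.trans (mem_irrKer.1 hχ).2)

theorem card_irrKer_of_der_le {K N : Subgroup G} (hN : ⁅K, K⁆ ≤ N) (hK : N ≤ K) :
    (irrKer K N).card = N.relIndex K := by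
  rw [← sum_irrKer_dg_sq ⟨hK, le_norm_of_der_le hN hK⟩, Finset.card_eq_sum_ones]
  exact Finset.sum_congr rfl fun χ hχ => by rw [(isLin_of_mem_irrKer hN hχ).dg, one_pow]

/-- Irreducible characters separate a normal subgroup from the elements outside. -/
theorem exists_irrKer_notMem_cfKer {K N : Subgroup G} (h : N ⊲ K) {x : G} (hxN : x ∉ N) :
    ∃ χ ∈ irrKer K N, x ∉ cfKer χ := by
  by_cases hx : x ∈ K
  swap
  · exact ⟨cf1 K, cf1_mem_irrKer h.1, fun h' => hx (irr_cfKer_le (cf1_mem_Irr K) h')⟩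
  have := H1.normal_subgroupOf_of_le h.2
  by_contra hc
  push Not at hc
  have h1 := sum_irr_one_mul (⊤ : Subgroup (K ⧸ N.subgroupOf K)) (H1.qmk K N ⟨x, hx⟩)
  have h2 := sum_irr_one_mul (⊤ : Subgroup (K ⧸ N.subgroupOf K)) 1
  rw [if_neg fun e => hxN (H1.qmk_eq_one_iff.1 e)] at h1
  rw [if_pos rfl, ← Finset.sum_congr rfl fun ψ hψ => ?_, h1] at h2
  · exact card_ne_zero_C _ h2.symm
  · have := apply_of_mem_cfKer
      (hc _ ((pullPair_bar_top h.1).pull_mem_irrKer (pullPair_bar_bot h.1) hψ))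
    rw [cfPull_of_mem _ hx, cfPull_one] at this
    rw [this]

theorem irrKerD_nonempty {K H M : Subgroup G} (hM : M ⊲ K) (h : ¬ H ≤ M) :
    (irrKerD K H M).Nonempty := by
  obtain ⟨x, hx, hxM⟩ := SetLike.not_le_iff_exists.1 h
  obtain ⟨χ, hχ, hx'⟩ := exists_irrKer_notMem_cfKer hM hxM
  exact ⟨χ, mem_irrKerD.2 ⟨(mem_irrKer.1 hχ).1, (mem_irrKer.1 hχ).2, fun h' => hx' (h' hx)⟩⟩

/-! ### Semidirect and direct products -/

omit [Finite G] in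
/-- The projection `N ⋊ A → A`. -/
theorem SdProd.exists_proj {N A K : Subgroup G} (h : SdProd N A K) :
    ∃ p : K →* G, (∀ k, p k ∈ A) ∧ (∀ k : K, (k : G) * (p k)⁻¹ ∈ N) ∧
      (∀ k : K, (k : G) ∈ A → p k = k) ∧ ∀ k : K, p k = 1 ↔ (k : G) ∈ N := by
  have h1 : ∀ k : K, ∃ a ∈ A, (k : G) * a⁻¹ ∈ N := fun k => by
    obtain ⟨n, hn, a, ha, e⟩ := h.mem_iff.1 k.2
    exact ⟨a, ha, by rw [← e]; simpa using hn⟩
  choose p hp hp' using h1
  have huniq : ∀ k : K, ∀ a ∈ A, (k : G) * a⁻¹ ∈ N → p k = a := fun k a ha hk => by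
    have h2 : p k * a⁻¹ ∈ N ⊓ A := ⟨by
      have := N.mul_mem (N.inv_mem (hp' k)) hk
      simpa [mul_assoc] using this, A.mul_mem (hp k) (A.inv_mem ha)⟩
    rw [h.disj, mem_bot] at h2
    exact mul_inv_eq_one.1 h2
  refine ⟨MonoidHom.mk' p fun k l => huniq _ _ (A.mul_mem (hp k) (hp l)) ?_, hp, hp',
    fun k hk => huniq k k hk (by simp), fun k => ⟨fun e => ?_, fun hk => ?_⟩⟩
  · have := N.mul_mem (hp' k) (H1.conj_mem_of_le_normalizer h.norm (hp k) (hp' l))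
    have e : (k : G) * (p k)⁻¹ * (p k * (l * (p l)⁻¹) * (p k)⁻¹) = k * l * (p k * p l)⁻¹ := by group
    rwa [e] at this
  · have := hp' k
    rw [show p k = 1 from e] at this
    simpa using this
  · exact huniq k 1 A.one_mem (by simpa using hk)

/-- Restriction to a complement is a bijection `Irr(K / N) → Irr(A)`. -/
theorem SdProd.res_bijOn {N A K : Subgroup G} (h : SdProd N A K) :
    Set.BijOn (res A) (irrKer K N : Set (G → ℂ)) (Irr A) ∧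
      ∀ φ ∈ CF K, ∀ ψ ∈ CF K, N ≤ cfKer φ → N ≤ cfKer ψ → ip A φ ψ = ip K φ ψ := by
  obtain ⟨p, h1, -, h3, h4⟩ := h.exists_proj
  have hK : PullPair K p K A := ⟨le_rfl, fun y => ⟨fun _ => h1 y, fun _ => y.2⟩,
    fun z hz => ⟨⟨z, h.le_right hz⟩, h3 _ hz⟩⟩
  have hN : PullPair K p N ⊥ := ⟨h.le_left, fun y => by rw [mem_bot, h4],
    fun z hz => ⟨1, by rw [mem_bot.1 hz, map_one]⟩⟩
  have hr : ∀ ψ ∈ CF A, res A (cfPull K p ψ) = ψ := fun ψ hψ =>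
    CF_ext (res_mem_CF h.le_right (hK.pull_mem_CF hψ)) hψ fun x hx => by
      rw [res_of_mem _ hx, cfPull_of_mem _ (h.le_right hx), h3 _ hx]
  refine ⟨⟨fun χ hχ => ?_, fun χ hχ χ' hχ' e => ?_, fun θ hθ => ?_⟩, fun φ hφ ψ hψ kφ kψ => ?_⟩
  · obtain ⟨ψ, hψ, rfl⟩ := hK.exists_pull_irr hN hχ
    rw [hr ψ (irr_mem_CF hψ)]; exact hψ
  · obtain ⟨ψ, hψ, rfl⟩ := hK.exists_pull_irr hN hχ
    obtain ⟨ψ', hψ', rfl⟩ := hK.exists_pull_irr hN hχ'
    rw [hr ψ (irr_mem_CF hψ), hr ψ' (irr_mem_CF hψ')] at e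
    rw [e]
  · exact ⟨_, hK.pull_mem_irrKer hN hθ, hr θ (irr_mem_CF hθ)⟩
  · obtain ⟨φ', hφ', rfl⟩ := hK.exists_pull hN hφ kφ
    obtain ⟨ψ', hψ', rfl⟩ := hK.exists_pull hN hψ kψ
    rw [hK.ip_pull, ← ip_res_left, ← ip_res_right, hr _ hφ', hr _ hψ']

theorem SdProd.res_mem_Irr {N A K : Subgroup G} (h : SdProd N A K) {χ : G → ℂ}
    (hχ : χ ∈ irrKer K N) : res A χ ∈ Irr A := h.res_bijOn.1.1 hχ

theorem SdProd.exists_irrKer_res {N A K : Subgroup G} (h : SdProd N A K) {θ : G → ℂ}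
    (hθ : θ ∈ Irr A) : ∃ χ ∈ irrKer K N, res A χ = θ := h.res_bijOn.1.2.2 hθ

theorem SdProd.eq_of_res_eq {N A K : Subgroup G} (h : SdProd N A K) {χ ψ : G → ℂ}
    (hχ : χ ∈ irrKer K N) (hψ : ψ ∈ irrKer K N) (e : res A χ = res A ψ) : χ = ψ :=
  h.res_bijOn.1.2.1 hχ hψ e

theorem SdProd.card_irrKer {N A K : Subgroup G} (h : SdProd N A K) :
    (irrKer K N).card = (Irr A).card := Finset.card_nbij _ h.res_bijOn.1.1 h.res_bijOn.1.2.1
      h.res_bijOn.1.2.2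

theorem DProd.sum_eq {M : Type*} [AddCommMonoid M] {A B K : Subgroup G} (h : DProd A B K)
    (F : G → M) : ∑ x ∈ fs (K : Set G), F x =
      ∑ a ∈ fs (A : Set G), ∑ b ∈ fs (B : Set G), F (a * b) := by
  rw [← Finset.sum_product']
  symm
  refine Finset.sum_nbij (fun p => p.1 * p.2) (fun p hp => ?_) (fun p hp q hq e => ?_)
    (fun x hx => ?_) fun _ _ => rfl
  · rw [Finset.mem_product, mem_fs, mem_fs] at hp
    exact mem_fs.2 (K.mul_mem (h.le_left hp.1) (h.le_right hp.2))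
  · simp only [Finset.coe_product, coe_fs, Set.mem_prod, SetLike.mem_coe] at hp hq
    have e' : q.1⁻¹ * p.1 = q.2 * p.2⁻¹ := by
      calc q.1⁻¹ * p.1 = q.1⁻¹ * (p.1 * p.2) * p.2⁻¹ := by group
        _ = _ := by rw [show p.1 * p.2 = q.1 * q.2 from e]; group
    have h2 : q.1⁻¹ * p.1 ∈ A ⊓ B :=
      ⟨A.mul_mem (A.inv_mem hq.1) hp.1, e' ▸ B.mul_mem hq.2 (B.inv_mem hp.2)⟩
    rw [h.disj, mem_bot] at h2
    have h3 : q.1 = p.1 := inv_mul_eq_one.1 h2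
    refine Prod.ext h3.symm ?_
    rw [h2] at e'
    exact (mul_inv_eq_one.1 e'.symm).symm
  · rw [coe_fs] at hx
    obtain ⟨a, ha, b, hb, rfl⟩ := h.mem_iff.1 hx
    exact ⟨(a, b), by simp [ha, hb], rfl⟩

theorem DProd.ip_mul {A B K : Subgroup G} (h : DProd A B K) {α α' β β' : G → ℂ}
    (hα : α ∈ CF K) (hα' : α' ∈ CF K) (kα : B ≤ cfKer α) (kα' : B ≤ cfKer α')
    (kβ : A ≤ cfKer β) (kβ' : A ≤ cfKer β') :
    ip K (α * β) (α' * β') = ip A α α' * ip B β β' := by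
  rw [ip_def, ip_def, ip_def, h.sum_eq, h.card, sum_fs_congr (A := (A : Set G))
    (g := fun a => α a * conj (α' a) * ∑ b ∈ fs (B : Set G), β b * conj (β' b)) fun a ha => by
      rw [Finset.mul_sum]
      refine sum_fs_congr fun b hb => ?_
      simp only [Pi.mul_apply, apply_mul_of_mem_cfKer hα (kα hb), apply_mul_of_mem_cfKer hα' (kα' hb),
        kβ ha b, kβ' ha b, map_mul]
      ring, ← Finset.sum_mul]
  push_cast
  ring

theorem DProd.ip_mul_irrKer {A B K : Subgroup G} (h : DProd A B K) {α α' β β' : G → ℂ}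
    (hα : α ∈ irrKer K B) (hα' : α' ∈ irrKer K B) (hβ : β ∈ irrKer K A) (hβ' : β' ∈ irrKer K A) :
    ip K (α * β) (α' * β') = if α = α' ∧ β = β' then 1 else 0 := by
  obtain ⟨a1, a2⟩ := mem_irrKer.1 hα
  obtain ⟨a3, a4⟩ := mem_irrKer.1 hα'
  obtain ⟨b1, b2⟩ := mem_irrKer.1 hβ
  obtain ⟨b3, b4⟩ := mem_irrKer.1 hβ'
  rw [h.ip_mul (irr_mem_CF a1) (irr_mem_CF a3) a2 a4 b2 b4,
    h.symm.sdProd.res_bijOn.2 _ (irr_mem_CF a1) _ (irr_mem_CF a3) a2 a4,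
    h.sdProd.res_bijOn.2 _ (irr_mem_CF b1) _ (irr_mem_CF b3) b2 b4, ip_irr a1 a3, ip_irr b1 b3]
  by_cases e : α = α' <;> by_cases e' : β = β' <;> simp [e, e']

theorem DProd.mul_mem_Irr {A B K : Subgroup G} (h : DProd A B K) {α β : G → ℂ}
    (hα : α ∈ irrKer K B) (hβ : β ∈ irrKer K A) : α * β ∈ Irr K := by
  rw [((irr_isChar (mem_irrKer.1 hα).1).mul (irr_isChar (mem_irrKer.1 hβ).1)).mem_Irr_iff,
    nsq_eq_one_iff, h.ip_mul_irrKer hα hα hβ hβ, if_pos ⟨rfl, rfl⟩]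

theorem DProd.mul_eq_mul_iff {A B K : Subgroup G} (h : DProd A B K) {α α' β β' : G → ℂ}
    (hα : α ∈ irrKer K B) (hα' : α' ∈ irrKer K B) (hβ : β ∈ irrKer K A) (hβ' : β' ∈ irrKer K A) :
    α * β = α' * β' ↔ α = α' ∧ β = β' := by
  refine ⟨fun e => ?_, fun e => by rw [e.1, e.2]⟩
  have := h.ip_mul_irrKer hα hα' hβ hβ'
  rw [← e, ip_irr_self (h.mul_mem_Irr hα hβ)] at this
  by_contra h'
  rw [if_neg h'] at this
  exact one_ne_zero this

theorem DProd.exists_mul {A B K : Subgroup G} (h : DProd A B K) {χ : G → ℂ} (hχ : χ ∈ Irr K) :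
    ∃ α ∈ irrKer K B, ∃ β ∈ irrKer K A, χ = α * β := by
  have hinj : Set.InjOn (fun p : (G → ℂ) × (G → ℂ) => p.1 * p.2)
      (irrKer K B ×ˢ irrKer K A : Finset _) := fun p hp q hq e => by
    rw [Finset.mem_coe, Finset.mem_product] at hp hq
    have := (h.mul_eq_mul_iff hp.1 hq.1 hp.2 hq.2).1 e
    exact Prod.ext this.1 this.2
  have hsub : (irrKer K B ×ˢ irrKer K A).image (fun p => p.1 * p.2) ⊆ Irr K := fun ψ hψ => by
    obtain ⟨p, hp, rfl⟩ := Finset.mem_image.1 hψ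
    rw [Finset.mem_product] at hp
    exact h.mul_mem_Irr hp.1 hp.2
  have h1 : ∑ ψ ∈ (irrKer K B ×ˢ irrKer K A).image (fun p => p.1 * p.2), dg ψ ^ 2 =
      ∑ ψ ∈ Irr K, dg ψ ^ 2 := by
    rw [Finset.sum_image hinj, sum_irr_dg_sq, h.card, ← h.sdProd.relIndex_left,
      ← h.symm.sdProd.relIndex_left, ← sum_irrKer_dg_sq h.normal_left,
      ← sum_irrKer_dg_sq h.normal_right, Finset.sum_mul_sum, Finset.sum_product]
    refine Finset.sum_congr rfl fun α hα => Finset.sum_congr rfl fun β hβ => ?_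
    rw [(irr_isChar (mem_irrKer.1 hα).1).dg_mul (irr_isChar (mem_irrKer.1 hβ).1), mul_pow]
  by_contra hc
  have h2 : χ ∉ (irrKer K B ×ˢ irrKer K A).image (fun p => p.1 * p.2) := fun hm => by
    obtain ⟨p, hp, e⟩ := Finset.mem_image.1 hm
    rw [Finset.mem_product] at hp
    exact hc ⟨p.1, hp.1, p.2, hp.2, e.symm⟩
  have := Finset.sum_lt_sum_of_subset hsub hχ h2 (f := fun ψ => dg ψ ^ 2)
    (pow_pos (irr_dg_pos hχ) 2) fun _ _ _ => Nat.zero_le _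
  omega

theorem DProd.sum_Irr {M : Type*} [AddCommMonoid M] {A B K : Subgroup G} (h : DProd A B K)
    (F : (G → ℂ) → M) :
    ∑ χ ∈ Irr K, F χ = ∑ α ∈ irrKer K B, ∑ β ∈ irrKer K A, F (α * β) := by
  rw [← Finset.sum_product']
  symm
  refine Finset.sum_nbij (fun p => p.1 * p.2) (fun p hp => ?_) (fun p hp q hq e => ?_)
    (fun χ hχ => ?_) fun _ _ => rfl
  · rw [Finset.mem_product] at hp
    exact h.mul_mem_Irr hp.1 hp.2
  · rw [Finset.mem_coe, Finset.mem_product] at hp hq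
    have := (h.mul_eq_mul_iff hp.1 hq.1 hp.2 hq.2).1 e
    exact Prod.ext this.1 this.2
  · obtain ⟨α, hα, β, hβ, rfl⟩ := h.exists_mul hχ
    exact ⟨(α, β), by simp [hα, hβ], rfl⟩

theorem DProd.card_irrKer_of_comm {A B K : Subgroup G} (h : DProd A B K) (hK : IsMulCommutative K) :
    (irrKer K B).card = Nat.card A ∧ (irrKer K A).card = Nat.card B :=
  ⟨by rw [h.symm.sdProd.card_irrKer, card_Irr_of_comm (isMulComm_of_le h.le_left hK)],
    by rw [h.sdProd.card_irrKer, card_Irr_of_comm (isMulComm_of_le h.le_right hK)]⟩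

theorem DProd.eq_cf1_of_mem_irrKer {A B K : Subgroup G} (h : DProd A B K) {α : G → ℂ}
    (hα : α ∈ irrKer K B) (hα' : α ∈ irrKer K A) : α = cf1 K :=
  (irr_eq_cf1_iff (mem_irrKer.1 hα).1).2
    (h.sup ▸ sup_le (mem_irrKer.1 hα').2 (mem_irrKer.1 hα).2)

end Cfsg.Agent.FT
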