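/-
Odd order theorem project: vocabulary for PF sections 9 to 14.
-/
import Cfsg.Agent.FT.Char

set_option autoImplicit false

namespace Cfsg.Agent.FT

open Subgroup Cfsg Cfsg.Agent
open scoped commutatorElement

universe u

variable {G : Type u} [Group G]

/-- PF Hypothesis (9.2) together with the subgroup `H₀` of (9.4); `p = H₀.relIndex W₂`,
`q = 𝐨(W₁)`, `H = MF M`, `HU = ⁅M, M⁆`. -/
structure Hyp9 (M U W₁ W₂ W H₀ : Subgroup G) : Prop where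
  max : IsCoatom M
  typeP : OfTypeP M U W₁ W₂ W
  not5 : ftType M ≠ 5
  ker : FcoreKer M U H₀

/-- `C = C_U(H / H₀)` of PF (9.5); `u = (fcC M U H₀).relIndex U`. -/
def fcC (M U H₀ : Subgroup G) : Subgroup G := U ⊓ centMod (MF M) H₀

/-- The data of PF (9.7)(a). -/
structure NonGalois (M U W₁ W₂ H₀ H₁ : Subgroup G) (a : ℕ) : Prop where
  le0 : H₀ ≤ H₁
  le : H₁ ≤ MF M
  card : H₀.relIndex H₁ = H₀.relIndex W₂
  norm : U ≤ 𝐍(H₁)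
  sup : ⨆ w ∈ W₁, H₁ ^ᵍ w = MF M
  a_eq : a = (centMod H₁ H₀).relIndex U
  one_lt : 1 < a
  dvd : a ∣ H₀.relIndex W₂ - 1
  cyc : CycMod U (U ⊓ centMod H₁ H₀)
  u_dvd : (fcC M U H₀).relIndex U ∣ a ^ (𝐨(W₁) - 1)
  pow_mem : ∀ x ∈ U, x ^ a ∈ fcC M U H₀

variable [Finite G]

/-- `𝒮(Y)` of PF sections 9 and 13. -/
noncomputable abbrev S9 (M Y : Subgroup G) : Finset (G → ℂ) := seqIndD ⁅M, M⁆ M (MF M) Y

/-- `𝒮(Y)` of PF sections 10 and 11. -/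
noncomputable abbrev S11 (M Y : Subgroup G) : Finset (G → ℂ) := seqIndD ⁅M, M⁆ M ⁅M, M⁆ Y

/-- `𝒮` of PF section 12, `ℒ` of sections 13 and 14. -/
noncomputable abbrev S12 (L : Subgroup G) : Finset (G → ℂ) := seqIndD (MF L) L (MF L) ⊥

/-- `ζ ∈ 𝒮(H₀ C)` has degree `q u` and is induced from a linear character of `H C`. -/
structure IsIndHC (M U W₁ H₀ : Subgroup G) (ζ : G → ℂ) : Prop where
  deg : dg ζ = 𝐨(W₁) * (fcC M U H₀).relIndex U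
  mem : ζ ∈ S9 M (H₀ ⊔ fcC M U H₀)
  lin : ∃ ξ, IsLin (MF M ⊔ fcC M U H₀) ξ ∧ ζ = ind M (MF M ⊔ fcC M U H₀) ξ

/-- The constants `d`, `δ`, `n` of PF (10.3). -/
structure Const345 (M W₁ W₂ W : Subgroup G) (d : ℕ) (δ : ℤ) (n : ℕ) : Prop where
  deg : ∀ α ∈ irrKer W W₂, ∀ β ∈ irrKer W W₁, β ≠ cf1 W → dg (mu2 M W₁ W₂ (α * β)) = d
  sign : ∀ β ∈ irrKer W W₁, β ≠ cf1 W → delt M W₁ W₂ β = δ
  sgn : δ = 1 ∨ δ = -1
  one_lt : 1 < d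
  ratio : (d : ℤ) = δ + n * 𝐨(W₁)

/-- `α_{ij} = μ_{ij} - δ μ_{i0} - n ζ` of PF (10.5). -/
noncomputable def bridge345 (M W₁ W₂ : Subgroup G) (δ : ℤ) (n : ℕ) (ζ α β : G → ℂ) : G → ℂ :=
  mu2 M W₁ W₂ (α * β) - (δ : ℂ) • mu2 M W₁ W₂ α - (n : ℂ) • ζ

/-- `β_j = Ind_{P W₁}^S 1 - μ_{0j}` of PF (13.18). -/
noncomputable def bridge13 (S W₁ W₂ : Subgroup G) (β : G → ℂ) : G → ℂ :=
  ind S (MF S ⊔ W₁) (cf1 (MF S ⊔ W₁)) - mu2 S W₁ W₂ β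

/-- `(Ind_H^L 1 - φ)^τ` for `H = L_F` (PF (7.8), (13.19), section 14). -/
noncomputable def betaF (L : Subgroup G) (φ : G → ℂ) : G → ℂ :=
  tauF L (ind L (MF L) (cf1 (MF L)) - φ)

end Cfsg.Agent.FT
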